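import Cfsg.Agent.FourTwo.Cent
set_option linter.all false

/-!
The centraliser of every root element of `F₄(2)`: `cent_root : centralizer {x r} = RG (ge r)`, where
`ge r b ↔ (b, r) ≥ 0`; `tw r`: a word in the `n i` carrying `x 44` (`r` short) or `x 47` (`r` long) to `x r`.
-/

set_option autoImplicit false

namespace Cfsg.Agent.FourTwo.CentAll

open Cfsg.Lie Cfsg.Agent.ChevalleyStructure.TwF4.Rel Cfsg.Agent.ChevalleyStructure.TwF4.Tables
open Cfsg.Agent.ChevalleyStructure.TwF4.Torus (all_of)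
open Cfsg.Agent.ChevalleyStructure.F4NTab (ct)
open Cfsg.Agent.FourTwo.Base hiding bar bar_lt x_mul_self
open Cfsg.Agent.FourTwo.Comm Cfsg.Agent.FourTwo.BN Cfsg.Agent.FourTwo.Par Cfsg.Agent.FourTwo.Cent

/-- the short roots -/
def isShort (r : ℕ) : Bool :=
  [3, 7, 8, 9, 10, 11, 12, 13, 14, 18, 19, 20, 27, 28, 29, 33, 34, 35, 36, 37, 38, 39, 40, 44].contains r

/-- `x 44` for a short root, `x 47` for a long root -/
def base (r : ℕ) : ℕ := if isShort r then 44 else 47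

/-- words carrying the base root to `r` -/
def twT : List (List ℕ) := [[3, 2, 1, 2, 0, 1, 2, 3, 2, 1, 2, 0, 1, 2, 3],
  [2, 1, 2, 0, 1, 2, 3, 2, 1, 2, 0, 1, 2, 3],
  [1, 2, 0, 1, 2, 3, 2, 1, 2, 0, 1, 2, 3],
  [0, 1, 2, 3, 1, 2, 0, 1, 2, 3, 0, 1, 2, 1, 0],
  [2, 0, 1, 2, 3, 2, 1, 2, 0, 1, 2, 3],
  [0, 1, 2, 3, 2, 1, 2, 0, 1, 2, 3],
  [0, 1, 2, 3, 1, 2, 0, 1, 2, 3],
  [1, 2, 3, 1, 2, 0, 1, 2, 3, 0, 1, 2, 1, 0],
  [2, 3, 1, 2, 0, 1, 2, 3, 0, 1, 2, 1, 0],
  [3, 1, 2, 0, 1, 2, 3, 0, 1, 2, 1, 0],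
  [1, 2, 0, 1, 2, 3, 0, 1, 2, 1, 0],
  [3, 2, 0, 1, 2, 3, 0, 1, 2, 1, 0],
  [2, 0, 1, 2, 3, 0, 1, 2, 1, 0],
  [0, 1, 2, 3, 0, 1, 2, 1, 0],
  [0, 1, 2, 3, 1, 2, 1, 0],
  [2, 1, 2, 3, 2, 1, 2, 0, 1, 2, 3],
  [1, 2, 3, 2, 1, 2, 0, 1, 2, 3],
  [1, 2, 3, 1, 2, 0, 1, 2, 3],
  [3, 2, 1, 2, 3, 0, 1, 2, 1, 0],
  [2, 1, 2, 3, 0, 1, 2, 1, 0],
  [1, 2, 3, 0, 1, 2, 1, 0],
  [2, 3, 2, 1, 2, 0, 1, 2, 3],
  [2, 3, 1, 2, 0, 1, 2, 3],
  [3, 2, 1, 2, 0, 1, 2, 3],
  [2, 1, 2, 0, 1, 2, 3],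
  [3, 1, 2, 0, 1, 2, 3],
  [1, 2, 0, 1, 2, 3],
  [2, 3, 0, 1, 2, 1, 0],
  [3, 0, 1, 2, 1, 0],
  [0, 1, 2, 1, 0],
  [3, 2, 0, 1, 2, 3],
  [2, 0, 1, 2, 3],
  [0, 1, 2, 3],
  [1, 2, 3, 1, 2, 1, 0],
  [2, 3, 1, 2, 1, 0],
  [3, 1, 2, 1, 0],
  [1, 2, 1, 0],
  [3, 2, 1, 0],
  [2, 1, 0],
  [1, 0],
  [0],
  [3, 2, 1, 2, 3],
  [2, 1, 2, 3],
  [1, 2, 3],
  [],
  [2, 3],
  [3],
  []]

/-- the word carrying the base root to `r` -/
def tw (r : ℕ) : List ℕ := twT.getD r []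

theorem tw_tab : ((List.range 48).all fun r => (tw r).all (fun i => decide (i < 4)) &&
    (act (tw r) (base r) == r)) = true := by decide +kernel

theorem tw_lt {r : ℕ} (hr : r < 48) : ∀ i ∈ tw r, i < 4 := by
  have h := all_of tw_tab hr
  simp only [Bool.and_eq_true, List.all_eq_true, decide_eq_true_eq, beq_iff_eq] at h
  exact h.1

theorem act_tw {r : ℕ} (hr : r < 48) : act (tw r) (base r) = r := by
  have h := all_of tw_tab hr
  simp only [Bool.and_eq_true, List.all_eq_true, decide_eq_true_eq, beq_iff_eq] at h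
  exact h.2

theorem base_lt (r : ℕ) : base r < 48 := by
  unfold base
  split_ifs <;> omega

/-- the Weyl element carrying the base root to `r` -/
def wr (r : ℕ) : LL := nw (tw r)

theorem wr_mem {r : ℕ} (hr : r < 48) : wr r ∈ N := nw_mem_N (tw_lt hr)

theorem wr_conj {r b : ℕ} (hr : r < 48) (hb : b < 48) : wr r * x b * (wr r)⁻¹ = x (act (tw r) b) :=
  nw_conj (tw_lt hr) hb

theorem wr_base {r : ℕ} (hr : r < 48) : wr r * x (base r) * (wr r)⁻¹ = x r := by
  rw [wr_conj hr (base_lt r), act_tw hr]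

/-- the roots `b` with `(b, r) ≥ 0` -/
def ge (r b : ℕ) : Bool := decide (0 ≤ ct b r)

theorem conj_RG {w : LL} {P Q : ℕ → Bool} (h : ∀ b < 48, P b = true → w * x b * w⁻¹ ∈ RG Q) {g : LL}
    (hg : g ∈ RG P) : w * g * w⁻¹ ∈ RG Q := by
  have h1 : RG P ≤ (RG Q).comap (MulAut.conj w).toMonoidHom := RG_le fun s hs hP => by
    rw [Subgroup.mem_comap]
    show w * x s * w⁻¹ ∈ RG Q
    exact h s hs hP
  have h2 := h1 hg
  rw [Subgroup.mem_comap] at h2
  exact h2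

theorem ge_tab1 : ((List.range 48).all fun r => (List.range 48).all fun b =>
    !(if isShort r then psP b else plP b) || ge r (act (tw r) b)) = true := by decide +kernel

theorem ge_tab2 : ((List.range 48).all fun r => (List.range 48).all fun b =>
    !ge r b || b == r || (b + r != 47 && cmg b r == [])) = true := by decide +kernel

/-- **The centraliser of a root element.** -/
theorem cent_root {r : ℕ} (hr : r < 48) : Subgroup.centralizer {x r} = RG (ge r) := by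
  apply le_antisymm
  · intro g hg
    rw [Subgroup.mem_centralizer_singleton_iff] at hg
    have h1 : (wr r)⁻¹ * g * wr r ∈ Subgroup.centralizer {x (base r)} := by
      rw [Subgroup.mem_centralizer_singleton_iff]
      have h2 := wr_base hr
      have h3 : x (base r) = (wr r)⁻¹ * x r * wr r := by rw [← h2]; group
      rw [h3]
      calc (wr r)⁻¹ * g * wr r * ((wr r)⁻¹ * x r * wr r) = (wr r)⁻¹ * (g * x r) * wr r := by group
        _ = (wr r)⁻¹ * (x r * g) * wr r := by rw [hg]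
        _ = _ := by group
    have h4 : (wr r)⁻¹ * g * wr r ∈ RG (if isShort r then psP else plP) := by
      unfold base at h1
      split_ifs at h1 ⊢
      · rw [cent_short] at h1
        exact h1
      · rw [cent_long] at h1
        exact h1
    have h5 := conj_RG (w := wr r) (Q := ge r) (fun b hb hP => by
      rw [wr_conj hr hb]
      refine x_mem_RG (act_lt (tw_lt hr) hb) ?_
      have h6 := all_of (all_of ge_tab1 hr) hb
      have h7 : (if isShort r then psP b else plP b) = true := by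
        split_ifs at hP ⊢ <;> exact hP
      rw [h7, Bool.not_true, Bool.false_or] at h6
      exact h6) h4
    have e : wr r * ((wr r)⁻¹ * g * wr r) * (wr r)⁻¹ = g := by group
    rwa [e] at h5
  · refine RG_le fun b hb hP => ?_
    rw [Subgroup.mem_centralizer_singleton_iff]
    have h5 := all_of (all_of ge_tab2 hr) hb
    rw [hP, Bool.not_true, Bool.false_or, Bool.or_eq_true, beq_iff_eq] at h5
    rcases h5 with rfl | h5
    · rfl
    · simp only [Bool.and_eq_true, bne_iff_ne, ne_eq, beq_iff_eq] at h5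
      exact comm_one hb hr h5.1 h5.2

theorem mem_cent {r : ℕ} (hr : r < 48) {g : LL} (h : g * x r = x r * g) : g ∈ RG (ge r) := by
  rw [← cent_root hr, Subgroup.mem_centralizer_singleton_iff]
  exact h

end Cfsg.Agent.FourTwo.CentAll
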