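import Cfsg.Agent.ChevalleyStructure.F4TwU
import Cfsg.Agent.ChevalleyStructure.GraphF4
import Cfsg.Agent.ChevalleyStructure.TwF4.NStruct
set_option linter.all false

/-!
The group `F₄(2)` as `LL = chevF4.group (ZMod 2)`: root elements `x r` (`r < 48`, index of the root table;
positive roots `24, …, 47`, `-r = 47 - r`, fundamental roots `p₁ = 33`, `p₂ = 27` (short), `p₃ = 25`, `p₄ = 24` (long)),
words `wd w`, the kernel check `wd_eq` for identities between words, commutators of positive root elements,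
the elements `n i` (`i < 4`), the exceptional graph automorphism.
-/

set_option autoImplicit false

namespace Cfsg.Agent.FourTwo.Base

open Cfsg.Lie Cfsg.Agent.ChevalleyStructure.TwF4.Rel Cfsg.Agent.ChevalleyStructure.TwF4.Tables

/-- the group `F₄(2)` -/
abbrev LL : Type := ↥(chevF4.group (ZMod 2))

theorem X_mem (r : ℕ) : X r (1 : ZMod 2) ∈ chevF4.group (ZMod 2) := by
  by_cases hr : r < 48
  · exact Subgroup.subset_closure ⟨⟨r, hr⟩, 1, dif_pos hr⟩
  · rw [show X r (1 : ZMod 2) = 1 from Units.ext (x_ge r hr 1)]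
    exact one_mem _

/-- the root element `x_r(1)` -/
def x (r : ℕ) : LL := ⟨X r 1, X_mem r⟩

@[simp] theorem coe_x (r : ℕ) : ((x r : LL) : GL chevF4.Idx (ZMod 2)) = X r 1 := rfl

theorem x_mul_self (r : ℕ) : x r * x r = 1 := Subtype.ext (X_mul_self r 1)

theorem x_inv (r : ℕ) : (x r)⁻¹ = x r := by rw [inv_eq_iff_mul_eq_one, x_mul_self]

theorem zmod_cases : ∀ c : ZMod 2, c = 0 ∨ c = 1 := by decide

/-- `L` is generated by the root elements -/
theorem closure_x : Subgroup.closure {g : LL | ∃ r < 48, g = x r} = ⊤ := by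
  have hinj : Function.Injective (chevF4.group (ZMod 2)).subtype := (chevF4.group (ZMod 2)).subtype_injective
  apply Subgroup.map_injective hinj
  rw [MonoidHom.map_closure, ← MonoidHom.range_eq_map, Subgroup.range_subtype]
  apply le_antisymm
  · rw [Subgroup.closure_le]
    rintro _ ⟨g, -, rfl⟩
    exact g.2
  · unfold ChevalleyDatum.group
    rw [Subgroup.closure_le]
    rintro g ⟨r, t, hg⟩
    rcases zmod_cases t with rfl | rfl
    · have : g = 1 := by
        apply Units.ext
        rw [hg]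
        have h := x_zero (K := ZMod 2) r.val
        rw [ChevalleyDatum.x, dif_pos r.2] at h
        exact h
      rw [this]
      exact one_mem _
    · refine Subgroup.subset_closure ⟨x r.val, ⟨r.val, r.2, rfl⟩, ?_⟩
      apply Units.ext
      rw [hg]
      show chevF4.x (ZMod 2) r.val 1 = _
      rw [ChevalleyDatum.x, dif_pos r.2]

/-! ### words -/

/-- the product of a word in root elements -/
def wd (w : List ℕ) : LL := (w.map x).prod

@[simp] theorem wd_nil : wd [] = 1 := rfl

theorem wd_cons (r : ℕ) (w : List ℕ) : wd (r :: w) = x r * wd w := by simp [wd]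

theorem wd_append (w w' : List ℕ) : wd (w ++ w') = wd w * wd w' := by simp [wd]

theorem wd_one (r : ℕ) : wd [r] = x r := by simp [wd]

/-- the letters with trivial exponents -/
def lt0 (w : List ℕ) : List (ℕ × ℕ × ℕ) := w.map fun r => (r, 0, 0)

theorem coe_wd (w : List ℕ) : ((wd w : LL) : GL chevF4.Idx (ZMod 2)) = W (wordK 1 1 (lt0 w)) := by
  induction w with
  | nil => rfl
  | cons r w ih =>
    rw [wd_cons]
    show (x r : GL chevF4.Idx (ZMod 2)) * ((wd w : LL) : GL chevF4.Idx (ZMod 2)) = _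
    rw [ih, coe_x]
    have : wordK (1 : ZMod 2) 1 (lt0 (r :: w)) = (r, (1 : ZMod 2)) :: wordK 1 1 (lt0 w) := by
      simp [wordK, lt0]
    rw [this, W_cons]

/-- check of a word identity -/
def chk (w w' : List ℕ) : Bool := chkWord (lt0 w) (lt0 w')

theorem wd_eq (w w' : List ℕ) (h : chk w w' = true) : wd w = wd w' := by
  apply Subtype.ext
  rw [coe_wd, coe_wd]
  exact W_eq_of_chkWord _ _ h 1 1

/-! ### commutators -/

/-- the roots occurring in the commutator of two positive root elements -/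
def cmr (r s : ℕ) : List ℕ := (cm r s).map fun p => p.1

theorem comm (r s : ℕ) (hr : 24 ≤ r) (hr' : r < 48) (hs : 24 ≤ s) (hs' : s < 48) (hrs : r ≠ s) :
    x r * x s = x s * wd (cmr r s) * x r := by
  apply Subtype.ext
  show X r 1 * X s 1 = X s 1 * ((wd (cmr r s) : LL) : GL chevF4.Idx (ZMod 2)) * X r 1
  rw [comm_rel r s hr hr' hs hs' hrs, coe_wd]
  congr 2
  have : wordK (1 : ZMod 2) 1 (cm r s) = wordK 1 1 (lt0 (cmr r s)) := by
    unfold wordK lt0 cmr
    rw [List.map_map, List.map_map]
    apply List.map_congr_left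
    intro p _
    simp
  rw [this]

/-! ### the Weyl group elements -/

theorem nG_mem {i : ℕ} : nG (ZMod 2) (sp i) ∈ chevF4.group (ZMod 2) :=
  mul_mem (mul_mem (X_mem _) (X_mem _)) (X_mem _)

/-- `n_{p_{i+1}}` -/
def n (i : ℕ) : LL := ⟨nG (ZMod 2) (sp i), nG_mem⟩

theorem n_eq_wd (i : ℕ) : n i = wd [sp i, 47 - sp i, sp i] := by
  apply Subtype.ext
  show nG (ZMod 2) (sp i) = _
  rw [coe_wd]
  simp [wordK, lt0, W_cons, nG, mul_assoc]

theorem n_mul_self {i : ℕ} (hi : i < 4) : n i * n i = 1 := Subtype.ext (nG_mul_self i hi)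

theorem n_inv {i : ℕ} (hi : i < 4) : (n i)⁻¹ = n i := by rw [inv_eq_iff_mul_eq_one, n_mul_self hi]

theorem n_mul_x {i r : ℕ} (hi : i < 4) (hr : r < 48) : n i * x r = x (refl i r) * n i :=
  Subtype.ext (nG_mul_X i r hi hr 1)

theorem n_conj {i r : ℕ} (hi : i < 4) (hr : r < 48) : n i * x r * (n i)⁻¹ = x (refl i r) := by
  rw [n_mul_x hi hr, mul_inv_cancel_right]

/-! ### the graph automorphism -/

/-- the exceptional symmetry of the root table -/
def bar (r : ℕ) : ℕ :=
  [3, 7, 8, 0, 9, 11, 18, 1, 2, 4, 15, 5, 16, 21, 23, 10, 12, 19, 6, 17, 22, 13, 20, 14, 33, 27, 34, 25, 30, 41, 28, 35,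
    37, 24, 26, 31, 42, 32, 43, 45, 46, 29, 36, 38, 47, 39, 40, 44].getD r 0

theorem exists_graph : ∃ α : LL ≃* LL, ∀ r < 48, α (x r) = x (bar r) := by
  obtain ⟨α, hα⟩ := Cfsg.Agent.ChevalleyStructure.GraphF4.exists_graph (K := ZMod 2)
    (fun c => ⟨c, by rcases zmod_cases c with rfl | rfl <;> rfl⟩)
  refine ⟨α, fun r hr => ?_⟩
  have h := hα (x r) r 1 hr rfl
  apply Subtype.ext
  apply Units.ext
  rw [h, one_pow]
  rfl

theorem bar_tab : ((List.range 48).all fun r => decide (bar r < 48) && decide (bar (bar r) = r)) = true := by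
  decide +kernel

theorem bar_lt {r : ℕ} (hr : r < 48) : bar r < 48 := by
  have h := bar_tab
  rw [List.all_eq_true] at h
  have h1 := h r (List.mem_range.2 hr)
  simp only [Bool.and_eq_true, decide_eq_true_eq] at h1
  exact h1.1

theorem bar_bar {r : ℕ} (hr : r < 48) : bar (bar r) = r := by
  have h := bar_tab
  rw [List.all_eq_true] at h
  have h1 := h r (List.mem_range.2 hr)
  simp only [Bool.and_eq_true, decide_eq_true_eq] at h1
  exact h1.2

end Cfsg.Agent.FourTwo.Base
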