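import Cfsg.Agent.FourTwo.UCode
import Cfsg.Agent.FourTwo.Base
import Cfsg.Agent.S1062
import Cfsg.Agent.FastGrp
import Cfsg.Agent.Prune
set_option linter.all false
prune_inst 0x7ffefffbeffcbfffffff7e7ffefddffffffdffffffdffbfbfffef5ffafdf6b8efbfdfbafffeb58ff3ef6f2be32f87bd3fbffffffeffffd7ffffdfff47fffffdfffffbfad71dfbcbe1ffe6ffffbf97fce7f3fffffffffffffffffffffffffffbeffffffffffff
open scoped Cfsg.Agent.FastGrp

/-- decoders of the packed data (elaboration time only) -/
private noncomputable def pk61d (b S i : Nat) : Nat := Nat.mod (Nat.shiftRight S (Nat.mul b i)) (Nat.shiftLeft (nat_lit 1) b)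
private noncomputable def pk61f {α : Type} (t : Nat) (f : Nat → α) : α := Nat.rec (f Nat.zero) (fun k _ => f (Nat.succ k)) t
private noncomputable def pk61l {α : Type} (f : Nat → α) (s e : Nat) (tl : List α) : List α :=
  pk61f e fun e => Nat.rec tl (fun k ih => List.cons (pk61f (Nat.sub e (Nat.succ k)) f) ih) (Nat.sub e s)

namespace Cfsg.Agent.H90F

private noncomputable def fal {α : Type} (l : List α) (p : α → Bool) : Bool :=
  List.rec true (fun a _ ih => Bool.rec false ih (p a)) l

private theorem al_fun : @List.all.{0} = @fal := by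
  funext α l p
  induction l with
  | nil => rfl
  | cons a l ih => rw [List.all_cons, ih]; show _ = (Bool.rec false (fal l p) (p a) : Bool); cases p a <;> rfl

private noncomputable def fmp {α β : Type} (f : α → β) (l : List α) : List β := List.rec [] (fun a _ ih => f a :: ih) l

private theorem mp_fun : @List.map.{0, 0} = @fmp := by
  funext α β f l
  induction l with
  | nil => rfl
  | cons a l ih => rw [List.map_cons, ih]; rfl

private noncomputable def dOf {P : Prop} (b : Bool) (h : b = true ↔ P) : Decidable P :=
  Bool.rec (motive := fun c => b = c → Decidable P) (fun e => isFalse fun hp => Bool.noConfusion (e.symm.trans (h.2 hp)))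
    (fun e => isTrue (h.1 e)) b rfl

private noncomputable def frc {α : Type} (x : ℕ) (f : ℕ → α) : α := Nat.rec (f 0) (fun k _ => f (Nat.succ k)) x

private theorem frc_eq {α : Type} (x : ℕ) (f : ℕ → α) : frc x f = f x := by cases x <;> rfl

private noncomputable def fen (a : ℕ) (l : List ℕ) : Bool :=
  frc a fun a => List.rec false (fun b _ ih => Bool.rec ih true (Nat.beq a b)) l

private theorem bn_eq (a b : ℕ) : (a == b) = Nat.beq a b := by
  rw [Bool.eq_iff_iff, beq_iff_eq, Nat.beq_eq]

private theorem fen_eq (a : ℕ) (l : List ℕ) : List.elem a l = fen a l := by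
  rw [fen, frc_eq]
  induction l with
  | nil => rfl
  | cons b l ih => rw [List.elem_cons, ih, bn_eq]; show _ = (Bool.rec _ true (Nat.beq a b) : Bool); cases Nat.beq a b <;> rfl

private theorem mn_fun {H} : @List.instDecidableMemOfLawfulBEq ℕ instBEqOfDecidableEq H =
    fun a l => dOf (fen a l) (by rw [← fen_eq]; exact List.elem_iff) := by
  funext a l; exact Subsingleton.elim _ _

end Cfsg.Agent.H90F

-- part: FourTwo/UMod
section
/-!
# Congruences of codes

`V K k` is the normal subgroup of `U` generated by the `x_j` with `j ≥ k`; the elements `el K a` and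
`el K b` are congruent modulo `V K k` iff `a` and `b` have the same low `k` bits (`mod_iff`).
So multiplication, inversion and conjugation of codes respect congruence modulo `2 ^ k`.
-/

set_option autoImplicit false

namespace Cfsg.Agent.FourTwo.UMod

open Cfsg.Lie Cfsg.Agent.ChevalleyStructure.TwF4.Rel Cfsg.Agent.ChevalleyStructure.TwF4.Tables
open Cfsg.Agent.ChevalleyStructure.F4TwU Cfsg.Agent.FourTwo.UCode

section Group

variable (K : Type*) [Field K] [CharP K 2]

/-- the subgroup generated by the `x_j` with `k ≤ j < 24` -/
def V (k : ℕ) : Subgroup (GL chevF4.Idx K) := Subgroup.closure {g | ∃ j, k ≤ j ∧ j < 24 ∧ g = x K j}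

theorem x_mem_V {k j : ℕ} (h : k ≤ j) (h' : j < 24) : x K j ∈ V K k :=
  Subgroup.subset_closure ⟨j, h, h', rfl⟩

theorem V_anti {k l : ℕ} (h : k ≤ l) : V K l ≤ V K k := by
  refine (Subgroup.closure_le _).2 ?_
  rintro g ⟨j, hj, hj', rfl⟩
  exact x_mem_V K (h.trans hj) hj'

theorem wel_mem_V {k : ℕ} {w : List ℕ} (h : ∀ c ∈ w, k ≤ c ∧ c < 24) : wel K w ∈ V K k := by
  induction w with
  | nil => exact Subgroup.one_mem _
  | cons c w ih =>
    rw [wel_cons]
    exact Subgroup.mul_mem _ (x_mem_V K (h c List.mem_cons_self).1 (h c List.mem_cons_self).2)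
      (ih fun d hd => h d (List.mem_cons_of_mem _ hd))

theorem V_24 : V K 24 = ⊥ := by
  unfold V
  have : {g : GL chevF4.Idx K | ∃ j, 24 ≤ j ∧ j < 24 ∧ g = x K j} = ∅ := by
    ext g
    simp only [Set.mem_ofPred_eq, Set.mem_empty_iff_false, iff_false]
    rintro ⟨r, h1, h2, _⟩
    omega
  rw [this, Subgroup.closure_empty]

theorem conj_gen {i j : ℕ} (hi : i < 24) (hj : j < 24) : x K j * x K i * x K j ∈ V K i := by
  rcases lt_trichotomy i j with h | rfl | h
  · have h1 := comm_x K h hj
    have h2 : x K j * x K i * x K j = x K i * wel K (cs j i) := by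
      rw [h1, mul_assoc, x_mul_self', mul_one]
    rw [h2]
    refine Subgroup.mul_mem _ (x_mem_V K le_rfl hi) (wel_mem_V K fun c hc => ?_)
    have := (cs_facts h hj).1 c hc
    omega
  · rw [x_mul_self', one_mul]
    exact x_mem_V K le_rfl hi
  · have h1 := comm_x K h hi
    have h2 : x K j * x K i * x K j = wel K (cs i j) * x K i := by
      rw [mul_assoc, h1, ← mul_assoc, ← mul_assoc, x_mul_self', one_mul]
    rw [h2]
    refine Subgroup.mul_mem _ (wel_mem_V K fun c hc => ?_) (x_mem_V K le_rfl hi)
    have := (cs_facts h hi).1 c hc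
    omega

theorem x_inv' (j : ℕ) : (x K j)⁻¹ = x K j := inv_eq_of_mul_eq_one_left (x_mul_self' K j)

theorem conj_x {k j : ℕ} (hj : j < 24) {v : GL chevF4.Idx K} (hv : v ∈ V K k) :
    x K j * v * x K j ∈ V K k := by
  refine Subgroup.closure_induction (p := fun (g : GL chevF4.Idx K) _ => x K j * g * x K j ∈ V K k)
    ?_ ?_ ?_ ?_ hv
  · rintro g ⟨i, hi, hi', rfl⟩
    exact V_anti K hi (conj_gen K hi' hj)
  · rw [mul_one, x_mul_self']
    exact Subgroup.one_mem _
  · intro a b _ _ ha hb
    have : x K j * (a * b) * x K j = (x K j * a * x K j) * (x K j * b * x K j) := by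
      have e : x K j * a * x K j * (x K j * b * x K j) =
          x K j * a * (x K j * x K j) * b * x K j := by
        simp only [mul_assoc]
      rw [e, x_mul_self', mul_one]
      simp only [mul_assoc]
    rw [this]
    exact Subgroup.mul_mem _ ha hb
  · intro a _ ha
    have : x K j * a⁻¹ * x K j = (x K j * a * x K j)⁻¹ := by
      rw [mul_inv_rev, mul_inv_rev, x_inv', mul_assoc]
    rw [this]
    exact Subgroup.inv_mem _ ha

theorem conj_wel {k : ℕ} {v : GL chevF4.Idx K} (hv : v ∈ V K k) : ∀ (w : List ℕ),
    (∀ c ∈ w, c < 24) → wel K w * v * (wel K w)⁻¹ ∈ V K k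
  | [], _ => by simpa [wel_nil] using hv
  | c :: w, h => by
    have ih := conj_wel hv w fun d hd => h d (List.mem_cons_of_mem _ hd)
    have h1 := conj_x K (h c List.mem_cons_self) ih
    rw [wel_cons, mul_inv_rev, x_inv']
    simpa only [mul_assoc] using h1

theorem conj_el {k : ℕ} {v : GL chevF4.Idx K} (hv : v ∈ V K k) (c : ℕ) :
    el K c * v * (el K c)⁻¹ ∈ V K k := by
  rw [← wel_lets]
  exact conj_wel K hv _ fun c hc => (mem_lets.1 hc).1

theorem conj_el' {k : ℕ} {v : GL chevF4.Idx K} (hv : v ∈ V K k) (c : ℕ) :
    (el K c)⁻¹ * v * el K c ∈ V K k := by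
  have h := conj_el K hv (invU c)
  rwa [el_invU, inv_inv] at h

theorem elR_mem_V (e k : ℕ) : ∀ (n a : ℕ), k ≤ a → a + n ≤ 24 → elR K e a n ∈ V K k
  | 0, a, _, _ => Subgroup.one_mem _
  | n + 1, a, h, h' => by
    rw [elR]
    refine Subgroup.mul_mem _ ?_ (elR_mem_V e k n (a + 1) (by omega) (by omega))
    unfold bt
    split
    · exact x_mem_V K h (by omega)
    · exact Subgroup.one_mem _

theorem el_split_at {k : ℕ} (hk : k ≤ 24) (e : ℕ) :
    el K e = elR K e 0 k * elR K e k (24 - k) := by
  have h : el K e = elR K e 0 (k + (24 - k)) := by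
    unfold el
    congr 1
    omega
  rw [h, elR_add, zero_add]

theorem V_le_Uk (k : ℕ) : V K k ≤ Uk K (24 + k) := by
  refine (Subgroup.closure_le _).2 ?_
  rintro g ⟨j, hj, hj', rfl⟩
  exact X_mem_Uk (by omega) (by omega) _

theorem posList_split {k : ℕ} (hk : k ≤ 24) :
    posList 24 = List.range' 24 k ++ posList (24 + k) := by
  unfold posList
  have h1 : 48 - 24 = k + (48 - (24 + k)) := by omega
  have h2 : List.range' 24 k ++ List.range' (24 + k) (48 - (24 + k)) =
      List.range' 24 (k + (48 - (24 + k))) := by
    have := List.range'_append_1 (s := 24) (m := k) (n := 48 - (24 + k))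
    simpa using this
  rw [h2, h1]

theorem wrd_append' (l l' : List ℕ) (t : ℕ → K) : wrd (l ++ l') t = wrd l t * wrd l' t := by
  unfold wrd
  rw [List.map_append, W_append]

theorem wrd_congr' {l : List ℕ} {t t' : ℕ → K} (h : ∀ r ∈ l, t r = t' r) : wrd l t = wrd l t' := by
  unfold wrd
  congr 1
  apply List.map_congr_left
  intro r hr
  rw [h r hr]

theorem mod_iff {k : ℕ} (hk : k ≤ 24) (a b : ℕ) :
    (el K a)⁻¹ * el K b ∈ V K k ↔ a % 2 ^ k = b % 2 ^ k := by
  constructor
  · intro h
    have h1 : elR K a k (24 - k) * ((el K a)⁻¹ * el K b) ∈ V K k :=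
      Subgroup.mul_mem _ (elR_mem_V K a k (24 - k) k le_rfl (by omega)) h
    obtain ⟨t, ht⟩ := exists_word_k (24 - k) (24 + k) (by omega) (by omega) _ (V_le_Uk K k h1)
    have h2 : el K b = elR K a 0 k * wrd (posList (24 + k)) t := by
      rw [← ht, ← mul_assoc, ← el_split_at K hk a, mul_inv_cancel_left]
    rw [elR_eq_wrd, el_eq_wrd] at h2
    have h3 : wrd (posList 24) (cf K b) =
        wrd (posList 24) (fun r => if r < 24 + k then cf K a r else t r) := by
      rw [h2, posList_split hk, wrd_append']
      congr 1
      · apply wrd_congr'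
        intro r hr
        rw [List.mem_range'_1] at hr
        rw [if_pos (by omega)]
      · apply wrd_congr'
        intro r hr
        rw [mem_posList] at hr
        rw [if_neg (by omega)]
    have h4 := word_unique _ _ _ (fun r hr => (by
      rw [mem_posList] at hr
      exact hr)) (pairwise_posList 24) h3
    apply Nat.eq_of_testBit_eq
    intro i
    rw [Nat.testBit_mod_two_pow, Nat.testBit_mod_two_pow]
    by_cases hi : i < k
    · have h5 := h4 (24 + i) (by rw [mem_posList]; omega)
      rw [if_pos (by omega)] at h5
      unfold cf at h5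
      have h6 : 24 + i - 24 = i := by omega
      rw [h6] at h5
      cases h7 : a.testBit i <;> cases h8 : b.testBit i
      · rfl
      · rw [h7, h8] at h5
        exact absurd h5 (by simp)
      · rw [h7, h8] at h5
        exact absurd h5 (by simp)
      · rfl
    · simp [hi]
  · intro h
    have h1 : elR K a 0 k = elR K b 0 k := by
      apply elR_congr
      intro i _ hi
      have h2 : (a % 2 ^ k).testBit i = (b % 2 ^ k).testBit i := by rw [h]
      rw [Nat.testBit_mod_two_pow, Nat.testBit_mod_two_pow] at h2
      have h3 : i < k := by omega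
      simpa [h3] using h2
    rw [el_split_at K hk a, el_split_at K hk b, h1, mul_inv_rev, mul_assoc, inv_mul_cancel_left]
    exact Subgroup.mul_mem _ (Subgroup.inv_mem _ (elR_mem_V K a k (24 - k) k le_rfl (by omega)))
      (elR_mem_V K b k (24 - k) k le_rfl (by omega))

end Group

/-! ### Consequences for codes -/

theorem mulU_mod {k : ℕ} (hk : k ≤ 24) {a a' b b' : ℕ} (ha : a % 2 ^ k = a' % 2 ^ k)
    (hb : b % 2 ^ k = b' % 2 ^ k) : mulU a b % 2 ^ k = mulU a' b' % 2 ^ k := by
  rw [← mod_iff (ZMod 2) hk] at ha hb ⊢
  rw [el_mulU, el_mulU]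
  have h : (el (ZMod 2) a * el (ZMod 2) b)⁻¹ * (el (ZMod 2) a' * el (ZMod 2) b') =
      ((el (ZMod 2) b)⁻¹ * ((el (ZMod 2) a)⁻¹ * el (ZMod 2) a') * el (ZMod 2) b) *
        ((el (ZMod 2) b)⁻¹ * el (ZMod 2) b') := by group
  rw [h]
  exact Subgroup.mul_mem _ (conj_el' _ ha b) hb

theorem conjU_mod {k : ℕ} (hk : k ≤ 24) {a a' : ℕ} (c : ℕ) (ha : a % 2 ^ k = a' % 2 ^ k) :
    conjU c a % 2 ^ k = conjU c a' % 2 ^ k := by
  rw [← mod_iff (ZMod 2) hk] at ha ⊢
  rw [el_conjU, el_conjU]
  have h : (el (ZMod 2) c * el (ZMod 2) a * (el (ZMod 2) c)⁻¹)⁻¹ *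
      (el (ZMod 2) c * el (ZMod 2) a' * (el (ZMod 2) c)⁻¹) =
      el (ZMod 2) c * ((el (ZMod 2) a)⁻¹ * el (ZMod 2) a') * (el (ZMod 2) c)⁻¹ := by group
  rw [h]
  exact conj_el _ ha c

/-- codes with the same element -/
theorem mod_24 {a b : ℕ} : el (ZMod 2) a = el (ZMod 2) b ↔ a % 2 ^ 24 = b % 2 ^ 24 := by
  rw [← mod_iff (ZMod 2) le_rfl, V_24, Subgroup.mem_bot, inv_mul_eq_one]

end Cfsg.Agent.FourTwo.UMod
end

-- part: FourTwo/InvCert
section
/-!
# Certificate for the conjugacy classes of involutions of `U`, and their fusion in `F₄(2)`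

`levels` describes a search tree.  Level `k` treats the elements `u` of `U` (as codes) whose square
has zero bits `< k`: up to conjugation in `U` the low `k` bits of `u` form one of the listed codes `r`.
A tag `0` means that both `r` and `r + 2 ^ k` have square with nonzero bit `k`, tag `c + 2` that
`c` conjugates `r + 2 ^ k` to `r` (modulo the bits above `k`), tag `1` keeps both.
`fus` gives the fusion of the final list of representatives to four of them.
-/

set_option autoImplicit false

namespace Cfsg.Agent.FourTwo.InvCert

open Cfsg.Agent.FourTwo.UCode Cfsg.Agent.FourTwo.UMod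

/-- check of a node of level `k` -/
def nodeOK (k : ℕ) (r : ℕ) (tag : ℕ) : Bool :=
  match tag with
  | 0 => !(Nat.beq (Nat.mod (mulU r r) (2 ^ (k + 1))) 0) &&
      !(Nat.beq (Nat.mod (mulU (r + 2 ^ k) (r + 2 ^ k)) (2 ^ (k + 1))) 0)
  | 1 => true
  | c + 2 => Nat.beq (Nat.mod (conjU c (r + 2 ^ k)) (2 ^ (k + 1))) r

/-- check of a level -/
def levOK (k : ℕ) (l : List (ℕ × ℕ)) : Bool := l.all fun p => nodeOK k p.1 p.2 && Nat.blt p.1 (2 ^ k)

/-- codes of the next level -/
def nxt (k : ℕ) : List (ℕ × ℕ) → List ℕ
  | [] => []
  | (_, 0) :: l => nxt k l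
  | (r, 1) :: l => r :: (r + 2 ^ k) :: nxt k l
  | (r, _ + 2) :: l => r :: nxt k l

def lev0 : List (ℕ × ℕ) := [
  (0, 1)]

def lev1 : List (ℕ × ℕ) := [
  (0, 1), (1, 1)]

def lev2 : List (ℕ × ℕ) := [
  (0, 1), (2, 3), (1, 4), (3, 0)]

def lev3 : List (ℕ × ℕ) := [
  (0, 1), (4, 1), (2, 1), (1, 1)]

def lev4 : List (ℕ × ℕ) := [
  (0, 1), (8, 4), (4, 1), (12, 4), (2, 10), (10, 0), (1, 1), (9, 1)]

def lev5 : List (ℕ × ℕ) := [
  (0, 1), (16, 3), (8, 6), (4, 10), (20, 10), (12, 0), (2, 1), (1, 18), (17, 0), (9, 18), (25, 0)]

def lev6 : List (ℕ × ℕ) := [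
  (0, 1), (32, 1), (16, 1), (8, 1), (4, 1), (20, 1), (2, 1), (34, 1), (1, 1), (9, 1)]

def lev7 : List (ℕ × ℕ) := [
  (0, 1), (64, 3), (32, 1), (96, 3), (16, 1), (80, 1), (8, 1), (72, 3), (4, 1), (68, 3), (20, 11),
  (84, 1), (2, 1), (66, 1), (34, 1), (98, 1), (1, 66), (65, 0), (9, 66), (73, 0)]

noncomputable def lev8 : List (ℕ × ℕ) :=
  (by
  refine (?fq9001 : ((pk61l (fun i1 => (_root_.Prod.mk (pk61d (nat_lit 8) 
    (nat_lit 0x901e262a222c2428202d45414448404488808d050901060a020408000) i1) (pk61d (nat_lit 8) 
    (nat_lit 0x5601008200820082008200004200424201010106060401060401060401) i1))) (nat_lit 0) (nat_lit 29) List.nil) : List (ℕ × ℕ))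
    = ?xq9001 → (List (ℕ × ℕ))) ?hq9001; (case hq9001 => (set_option maxRecDepth 1000000 in set_option simprocs false in conv => lhs; reduce; dsimp only)); intro _; exact ?xq9001 : List (ℕ × ℕ))

noncomputable def lev9 : List (ℕ × ℕ) :=
  (by
  refine (?fq9002 : ((pk61l (fun i1 => (_root_.Prod.mk (pk61d (nat_lit 9) 
    (nat_lit 0x980804c4222100828840252091884442010d0282422010302824020202020000) i1) (nat_lit 1))) (nat_lit 0) (nat_lit 29) List.nil) : List (ℕ × ℕ))
    = ?xq9002 → (List (ℕ × ℕ))) ?hq9002; (case hq9002 => (set_option maxRecDepth 1000000 in set_option simprocs false in conv => lhs; reduce; dsimp only)); intro _; exact ?xq9002 : List (ℕ × ℕ))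

noncomputable def lev10 : List (ℕ × ℕ) :=
  (by
  refine (?fq9003 : ((pk61l (fun i1 => (_root_.Prod.mk (pk61d (nat_lit 10) 
    (nat_lit 0x82409c0501804019886288822908428080285014a108481004d214892048e2188a2088c210882008b40d094050a4090c41108401098060a80a0c81208802090040a0080c010080000) i1) (pk61d (nat_lit 10) 
    (nat_lit 0x8080a00400) (pk61d (nat_lit 2) 
    (nat_lit 0x39955555553333339999999999999) i1)))) (nat_lit 0) (nat_lit 58) List.nil) : List (ℕ × ℕ))
    = ?xq9003 → (List (ℕ × ℕ))) ?hq9003; (case hq9003 => (set_option maxRecDepth 1000000 in set_option simprocs false in conv => lhs; reduce; dsimp only)); intro _; exact ?xq9003 : List (ℕ × ℕ))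

noncomputable def lev11 : List (ℕ × ℕ) :=
  (by
  refine (?fq9004 : ((pk61l (fun i1 => (_root_.Prod.mk (pk61d (nat_lit 11) 
    (nat_lit 0x12c068090140300400e624c5188316224450881164248510821602405008016144290500a684509210426044090100214809062044108010b42680d04a11402829092024188510220842080104c1180302a09402819052024088210020481100202809002018050020080200000) i1) (pk61d (nat_lit 11) 
    (nat_lit 0x10090104402401000800) (pk61d (nat_lit 3) 
    (nat_lit 0x249248c30c30c30c3016b70b68924922d168b45a2d68b25a2d168b25a2d1) i1)))) (nat_lit 0) (nat_lit 80) List.nil) : List (ℕ × ℕ))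
    = ?xq9004 → (List (ℕ × ℕ))) ?hq9004; (case hq9004 => (set_option maxRecDepth 1000000 in set_option simprocs false in conv => lhs; reduce; dsimp only)); intro _; exact ?xq9004 : List (ℕ × ℕ))

noncomputable def lev12 : List (ℕ × ℕ) :=
  (by
  refine (?fq9005 : ((pk61l (fun i1 => (_root_.Prod.mk (pk61d (nat_lit 12) 
    (nat_lit 0x809009b01301d01501901101a01201c014018010012620622220222420422020024140146842844848840846042044048040049481488480489881888880889081088080084d00d04500504900905101104100102604608600602a0ca04a08a00a0320520920120220420820020240440840040280c80480880080300500900100200400800000) i1) (pk61d (nat_lit 12) 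
    (nat_lit 0x802402208202022006003001000) (pk61d (nat_lit 4) 
    (nat_lit 0x80808080808080505414107070770707711112121212161113131310555055550555055541114332143214321) i1)))) (nat_lit 0) (nat_lit 90) List.nil) : List (ℕ × ℕ))
    = ?xq9005 → (List (ℕ × ℕ))) ?hq9005; (case hq9005 => (set_option maxRecDepth 1000000 in set_option simprocs false in conv => lhs; reduce; dsimp only)); intro _; exact ?xq9005 : List (ℕ × ℕ))

noncomputable def lev13 : List (ℕ × ℕ) :=
  (by
  refine (?fq9006 : ((pk61l (fun i1 => (_root_.Prod.mk (pk61d (nat_lit 13) 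
    (nat_lit 0x1230128084044024010008188044242821010840500200100505088840420811008004ca42522290148c2421220900484c446203108888440221211108084202201000826843401a145022841400a04908480240a21110088104202001023021800c0ca0250228014052049004808408200100902880440c2021020800401403200900880840020060050048044002002002002002000000) i1) (pk61d (nat_lit 12) 
    (nat_lit 0x80240220204404201200a001000) (pk61d (nat_lit 4) 
    (nat_lit 0x1111111110664111511111008800880880880880880770077077077077321332132132106666664332114321143211) i1)))) (nat_lit 0) (nat_lit 94) List.nil) : List (ℕ × ℕ))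
    = ?xq9006 → (List (ℕ × ℕ))) ?hq9006; (case hq9006 => (set_option maxRecDepth 1000000 in set_option simprocs false in conv => lhs; reduce; dsimp only)); intro _; exact ?xq9006 : List (ℕ × ℕ))

noncomputable def lev14 : List (ℕ × ℕ) :=
  (by
  refine (?fq9007 : ((pk61l (fun i1 => (_root_.Prod.mk (pk61d (nat_lit 14) 
    (nat_lit 0x200900263010c0650114061010406201080640110060010006062018a02200890420108202c009002800800280500140a12884221208402122040812804201200400111480521048012118806210880221108042100800210d00341050014109002411100441010004046021820600180ca012808a082800a014809208480120108082080800205100440610084041000400a00c801200880c20108082000800c005002403100440210004002001000800c0010008000000) i1) (pk61d (nat_lit 14) 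
    (nat_lit 0x8009002100c4020828202020802200280030004000) (pk61d (nat_lit 4) 
    (nat_lit 0xb0b0b0b0b0b0b1111111111111066665591210a0a0a0a0a0a3131313131088800888088808884471310666666654133215413321) i1)))) (nat_lit 0) (nat_lit 105) List.nil) : List (ℕ × ℕ))
    = ?xq9007 → (List (ℕ × ℕ))) ?hq9007; (case hq9007 => (set_option maxRecDepth 1000000 in set_option simprocs false in conv => lhs; reduce; dsimp only)); intro _; exact ?xq9007 : List (ℕ × ℕ))

noncomputable def lev15 : List (ℕ × ℕ) :=
  (by
  refine (?fq9008 : ((pk61l (fun i1 => (_root_.Prod.mk (pk61d (nat_lit 15) 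
    (nat_lit 0x241808501020208042008001c0c4818a0310062c044808a0110022a084410a02100428404080b8013002a004400b00120028004000b00a2014802800514420884410802111020204500920104022004800800100a4004803100220084000821a10340068105080a00140848409001204442088011020210040008086040c0018045020a0014024810900120104080800101440088061024200840208101000200c80090022018401080410002001800500920024018801100420104000800200080120004003000200080020000000) i1) (pk61d (nat_lit 15) 
    (nat_lit 0x20012002200420081110212040404080110012000c00100008000) (pk61d (nat_lit 4) 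
    (nat_lit 0x10776110d0d0d0d0d0d0d0d0d0d0d00cc0c0c0c0cc0cc1111110bb0bb0bb0bb0bb0aa0aa0aa0aa815554219154431077777777615544321) i1)))) (nat_lit 0) (nat_lit 111) List.nil) : List (ℕ × ℕ))
    = ?xq9008 → (List (ℕ × ℕ))) ?hq9008; (case hq9008 => (set_option maxRecDepth 1000000 in set_option simprocs false in conv => lhs; reduce; dsimp only)); intro _; exact ?xq9008 : List (ℕ × ℕ))

noncomputable def lev16 : List (ℕ × ℕ) :=
  (by
  refine (?fq9009 : ((pk61l (fun i1 => (_root_.Prod.mk (pk61d (nat_lit 16) 
    (nat_lit 0x8009000905010101020184010401800100012062006220220022104200420202300210022002000240140014088400840204480408044004000481480148804800488188018880880088810801088008000840d000d0405000504090009041100110401000102060006020a000a0212001202020002014408440044018404840084010404040804000400c80848004800880308010802080808000800500490009003100110021004100010002008400040048000800300010002000400080000000) i1) (pk61d (nat_lit 16) 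
    (nat_lit 0x80024002200210020802040201020082004200220012000a00010000) (pk61d (nat_lit 4) 
    (nat_lit 0xd08177210b0b0a155410c09166310d0d0d0d0d0d0c0c0c0c0c0b0b0b0b0aa0aa0aaa0990999990888888817766554321) i1)))) (nat_lit 0) (nat_lit 97) List.nil) : List (ℕ × ℕ))
    = ?xq9009 → (List (ℕ × ℕ))) ?hq9009; (case hq9009 => (set_option maxRecDepth 1000000 in set_option simprocs false in conv => lhs; reduce; dsimp only)); intro _; exact ?xq9009 : List (ℕ × ℕ))

noncomputable def lev17 : List (ℕ × ℕ) :=
  (by
  refine (?fq9010 : ((pk61l (fun i1 => (_root_.Prod.mk (pk61d (nat_lit 17) 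
    (nat_lit 0x90080c0804040284010200a0006000200010031000880085020201010c008200420028001000080028008481020081090080804200240010000801480024006200110010800040034000a0009000880004000c000a00090000810880044024200210080808040002021200090030800840082010100008024800240062001100108010400020102000100210000800480004000c0002000200020002000200000000) i1) (pk61d (nat_lit 11) 
    (nat_lit 0x82484905001) (pk61d (nat_lit 2) 
    (nat_lit 0x3c00000000000000a5000000000000000) i1)))) (nat_lit 0) (nat_lit 77) List.nil) : List (ℕ × ℕ))
    = ?xq9010 → (List (ℕ × ℕ))) ?hq9010; (case hq9010 => (set_option maxRecDepth 1000000 in set_option simprocs false in conv => lhs; reduce; dsimp only)); intro _; exact ?xq9010 : List (ℕ × ℕ))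

noncomputable def lev18 : List (ℕ × ℕ) :=
  (by
  refine (?fq9011 : ((pk61l (fun i1 => (_root_.Prod.mk (pk61d (nat_lit 18) 
    (nat_lit 0x800240009804040101c08050201808040201a10048401810040401a00048001c000500018000400018018800628008800228010800424080802028c0083002840081002880082002c00090002800080002800500014802100084c08110204808100204920104804820100804900104004c001100048001000048052001488012000488062001888022000888042001088002000088034000d08014000508024000908044001108004000108018000608028000a0804800120800800020211000440121000840901004040a01008040801000040a120084808120004808c2003080842001080882002080a020080808020000809240049008240009008c4003100844001100884002100904004100804000100c08010200808000200a100084008100004009200048008200008008c0003000840001000880002000900004000a00008000c00010000800000000) i1) (pk61d (nat_lit 18) 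
    (nat_lit 0x8000804220100c02220082802030002c0003000040000) (pk61d (nat_lit 4) 
    (nat_lit 0x909090909090909091111111111111111111121888817172121211111212121211111111111112121211111111111666655551421211111312111212121212121111131211121212121) i1)))) (nat_lit 0) (nat_lit 148) List.nil) : List (ℕ × ℕ))
    = ?xq9011 → (List (ℕ × ℕ))) ?hq9011; (case hq9011 => (set_option maxRecDepth 1000000 in set_option simprocs false in conv => lhs; reduce; dsimp only)); intro _; exact ?xq9011 : List (ℕ × ℕ))

noncomputable def lev19 : List (ℕ × ℕ) :=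
  (by
  refine (?fq9012 : ((pk61l (fun i1 => (_root_.Prod.mk (pk61d (nat_lit 19) 
    (nat_lit 0x2400809020100402210040200880012000200007003120062800c40018b001120022800440008b002120042800840010a810110202804040080b180123002860040c00b080121002820040400b100122002840040800b800130002a00044000b000120002800040000b000a20014800280005100424008400108c08108102202040040992011240204804c10088201004022400488008100118002500042000880012000200004c02908052200a400148c009080122002400048403110062000c42008880110002210084401080021080022000400008c01a0803420068000d0c00a080142002800050c012080242004800090c022080442008800110c002080042000800010c00c0801820030000604014100280005020120802400048100104002000041211004220404400088112100242040840010819010120204404008081a0101402048040100818010100204004000080a1200424020480009008c200184021080021018820110400208050101202004040200808010000203248024900892001240304802090081200024011880431000620084402088001100c42008840210800210048201104002080201008020000401810050200204008080201000020050801210004200204008080001003240024800890001200304002080081000020011800430000600084002080001000c400088002100002000480011000020002800090000200018000500002000080002000000000)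 i1) (pk61d (nat_lit 19) 
    (nat_lit 0x10000904032000201044008880109002060040800090000b000080000c00010000080000) (pk61d (nat_lit 4) 
    (nat_lit 0x11bbdd1110e0e0e0e0e0e0e0e0e0e0e0e0e0e0e0e0e0e00cc0cc0c0c00c00c0cc0cc0cc111111111111111111111441212133113321332121213113213211111612111112121212111115131111311311aaaaaaaa9999992188317321321321111111336133215213212121311321321321) i1)))) (nat_lit 0) (nat_lit 227) List.nil) : List (ℕ × ℕ))
    = ?xq9012 → (List (ℕ × ℕ))) ?hq9012; (case hq9012 => (set_option maxRecDepth 1000000 in set_option simprocs false in conv => lhs; reduce; dsimp only)); intro _; exact ?xq9012 : List (ℕ × ℕ))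

noncomputable def lev20 : List (ℕ × ℕ) :=
  (by
  refine (?fq9013 : ((pk61l (fun i1 => (_root_.Prod.mk (pk61d (nat_lit 20) 
    (nat_lit 0x80009000098010100101102010020108401004018800108001900011000180001000012006200062200220002220042000421020200202230020300221002010022200202002300021000220002000024001400014400840008410204002040480400804440040400450004100044000400004e014860148a014820148c0148401488014800148e004860048a004820048c0048400488004800048a018820188c0188401888018800188a008820088c0088400888008800088a010820108c0108401088010800108a000820008c0008400088000800008e00d0600d0200d0400d0800d0000d060050a0050200504005080050000506009020090c00904009080090000906011020110401108011000110600102001040010800100001060060a006020060400608006000060200a0c00a0400a0800a0000a02012040120801200012020020400208002000020c8440484408844008440c0440404408044000440448408484004840408408084000840e404064040a404024040c404044040840400404068040a80402804048040880400804060040a004020040400408004000040a8480284808848008480a0480204808048000480230808308003080210808108001080e208062080a208022080820800208028080c808048080880800808020080c0080400808008000080649002490044900049006090020900409000090023100431000310021100411000110062100a210022100421000210024100c41004410004100201004010080100001003020050200902001020020200402008020000200a840028400c8400484008840008400a040020400c040040400804000040064800248004480084800048006080020800408008080000800230004300083000030002100041000810000100062000a20002200042000820000200024000c4000440008400004000280004800088000080003000050000900001000020000400008000000000)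 i1) (pk61d (nat_lit 20) 
    (nat_lit 0x800024000220002100020800204002020020100200802004020020200022000120000a0000100000) (pk61d (nat_lit 4) 
    (nat_lit 0xf210c0b6655210d0d410c00998855410e310c0a7755310f0f0f0f0f0f0f0f0f0f0f0f0f0f0f0f0f0f0f0f00e0ee0ee0ee0e00ee0e0ee0e0ee000ddd0dddd0ddd0ddd0000bbbb000aaa777777776666664443210000bbbb00099988888866666433210000aaaa00099988888777743210000cccc000000bbbbbb00000aaaaa0000999988888877777666655554321) i1)))) (nat_lit 0) (nat_lit 285) List.nil) : List (ℕ × ℕ))
    = ?xq9013 → (List (ℕ × ℕ))) ?hq9013; (case hq9013 => (set_option maxRecDepth 1000000 in set_option simprocs false in conv => lhs; reduce; dsimp only)); intro _; exact ?xq9013 : List (ℕ × ℕ))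

noncomputable def lev21 : List (ℕ × ℕ) :=
  (by
  refine (?fq9014 : ((pk61l (fun i1 => (_root_.Prod.mk (pk61d (nat_lit 21) 
    (nat_lit 0x128010180080800404004020040144000820005200021000140000c0000400002000620001108010a0008400042001010840080200422002010010c0008200042000280001000008000284008480042000210004080080422002010010a000810004200024000100000860148100a41005200029060048100241001200009020188200c400062040110400880004408042080210001081000410002000010200d040068000341400a0200504002800014040120800900004808044100220001101000820004000020400604003000018180140400a04005000028080240801200009010008100040000206022010110100880004402042020210001080e40403202029010048080c4040220202101000808068040540200a010090080880400402018010140080200402002020010200080000405024008120100900004801084020420002100e2080310402882004410082080010400a020190100480804404002020040100c00802004020020200100000803048008240081200009001088010440002200621005108008840084200021001208031040088200041001008010040100201001000008008080080400802000010028100040800c04002020020100000800608001040010200101000008001080010400102000010003100028800044000420004100000800048000c4000220002100000800028000240002200001000030000280002400002000020000200002000020000000000)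 i1) (pk61d (nat_lit 19) 
    (nat_lit 0x800150000910412000a40004210084005030020404404028040500482008840108802090020a0010400108000080000) (pk61d (nat_lit 5) 
    (nat_lit 0x1810862b08481084210842108421084210842108421084210842090240902407bc0f7b9ce188207bc630840f78e611cc20948420845008a010025204a4004a4004a40948129025204a52001ef03de00000f781ef7bc0f7bdef10508184e318c4618845188210842108c6213422088211842118c625046212423104231102310421) i1)))) (nat_lit 0) (nat_lit 206) List.nil) : List (ℕ × ℕ))
    = ?xq9014 → (List (ℕ × ℕ))) ?hq9014; (case hq9014 => (set_option maxRecDepth 1000000 in set_option simprocs false in conv => lhs; reduce; dsimp only)); intro _; exact ?xq9014 : List (ℕ × ℕ))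

noncomputable def lev22 : List (ℕ × ℕ) :=
  (by
  refine (?fq9015 : ((pk61l (fun i1 => (_root_.Prod.mk (pk61d (nat_lit 22) 
    (nat_lit 0x9a0040480101c00405001018004040010100080400401a200048800182000408001240006100010400068000120000700001400006000010000060006200018a0002200008a2004208010b0004240010a0004200010a0020200080a2100208400a0100200400a2200208800a0200200800a300020c000a1000204000a2000208000b0000240000a0000200000a000140000524008410021300084400212000840002120020400081200804002012440041100120400401001250004140012100040400124000410001300004400012000040000102014800052020048000120401880006204008800022020108100420001080800204000880002000008200340000d028014020050a001408005080014000050200240000900804408011080044000110080040800108000400001020018000060300280400a0a00280800a0800280000a010048080120800480001201000808002080008000020201100004402021000084029010024040210100040402a010028040220100080402801002004020010100040000100804800012008108000420082080008200c808012020088080020200c0080100200800804002000008018240220900082400409000024002110090440041100004400621002884002210010840002100090400c41001104000410008040040100a0040080100c0040100100800400001008808002020090080040200a008008020080080000200281000204003010004040020100200400001000608008820002080010200280800202002008000020002100090400041000a040008100080400001000188000a2000088000420002080020200000800024000310000440002100020400001000028000120002880002200020800002000030000140000900008400001000008000040000a0000080000c000010000080000000000)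 i1) (pk61d (nat_lit 22) 
    (nat_lit 0x2000022800488005220000828402088408220040824082005208011020042080048200040800080804a0120080401200c0080202200801001012002128008420020880080a00104800212000408000440001080000400000400000) (pk61d (nat_lit 6) 
    (nat_lit 0x104104104104104104104104104104104080080080080080080080080080080080080080080080f3c15c404405b6ce3816813461820540420420404c505c71f0404d315e04101d01d00075d4510134d314308101d0580c304104308154308101d01d01d01d01d01d01d01d7596412832561c32160430410000134c04d34c00004d30134d30134d34d34d30810410810810c14810c10451454030c204504108108114514c0c20452c10c10451c30c20451830811410c3081081) i1)))) (nat_lit 0) (nat_lit 247) List.nil) : List (ℕ × ℕ))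
    = ?xq9015 → (List (ℕ × ℕ))) ?hq9015; (case hq9015 => (set_option maxRecDepth 1000000 in set_option simprocs false in conv => lhs; reduce; dsimp only)); intro _; exact ?xq9015 : List (ℕ × ℕ))

noncomputable def lev23 : List (ℕ × ℕ) :=
  (by
  refine (?fq9016 : ((pk61l (fun i1 => (_root_.Prod.mk (pk61d (nat_lit 23) 
    (nat_lit 0x80001200002740080a8010190020220040780080b00101a0020240040700080a001018002020004060010080020180080200100744000a8800191000222000704000a0800181000202000648000890001c2000284000608000810001d00002a0000640000880001e00002c0000680000900001c00002800006000008000010000c40000881002110004200008400080810801001002044004008008180010100020400044000080000120001400002990021120042040084600109400210800422000848001080002110010200020440100800201322002244004088009810011020020040044a0008140011080024100040200089000122000204000460000940001080002200004800008000010000a4020048800090000120200c40001880801110002200004404010800021008002020004600008400011000020000040000d00400a0800140000280800900001202004410008800011004002020004100008400010000020000182600500c00a0080140a0028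0400506000a040014100028000050440120080240200481000904001200002401000804001020002080004000008000220000840048080010100140200080400400804001000002008048000090120420040840001080104100008200640400480801101000202006004044008008010020020280040100080800100000200204800009004822001044000088004210000420031040022080004100080200a004004008030010020020080040000080220200840400080803201002402008804001008014010048020010040080080200100000200140801081000102000c04008808001010004020060040040080100100000200060800441000082000204002808001010008020020040000080004200190400120800441000082000a040024080008100040200100400000800062000144000088000210000820004040010080000100002400018800111000022000084000c080008100020200000400005000012000144000088000410001020000040000300000a000024000108000410000020000080002200000400005000002000018000050000020000080000200000000000) i1) (pk61d (nat_lit 23) 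
    (nat_lit 0x10000092200324008640800c800008600910c00a210900420420840051080002090804110408208810401220800040202280240100411200802400c00801011001112002114004048008050008220008440008880008100008200000c00000c00000800000) (pk61d (nat_lit 6) 
    (nat_lit 0x2202202202202202202202202202202202202202202202202202202202202202239180105634f85f18104104078001e01e78079e01e01e00078001e01e01e78079e01e78079e5dd0410131420404d914204205b7010406040c15040c104e0006000186186000134d34c510308155a20a1c90410406000180180180180186006186180130004c04c00130134d34d34c10410c30810c20430814810440811020420500411430430413451451441040c204c2c11440410481451440c30811c51040c20461440c20411451040c2043081) i1)))) (nat_lit 0) (nat_lit 276) List.nil) : List (ℕ × ℕ))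
    = ?xq9016 → (List (ℕ × ℕ))) ?hq9016; (case hq9016 => (set_option maxRecDepth 1000000 in set_option simprocs false in conv => lhs; reduce; dsimp only)); intro _; exact ?xq9016 : List (ℕ × ℕ))

/-- representatives of the `U`-classes of elements with square `1` -/
noncomputable def reps : List ℕ :=
  (by
  refine (?fq9017 : ((pk61l (fun i1 => (pk61d (nat_lit 24) 
    (nat_lit 0x9280101080101300101100101200101000101000201000401288001088001208001008001090001210001010001280001080001300001100001200001000001000062000022020042900042100042800042000042000202021002001002022002002002030002810002010002820002020002900002100002800002000002000014040084500084100084400084000084000204000804044004004004050004410004010004440004040004500004100004400004000004000148020048c00048400048800048000048000188040088400088800088000088000108020008040008600008a000082000084000088000080000080000d0020050a00050200050800050000050000090080110200110800110000110020010080010200010c000104000108000100000100000600400a06000a02000a04000a00000a0080120200120400120000120040020080020200020400020800020000020000440000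840024040004040028040008040820040020040900040100040800040000040000480001080002080048080008080440080040080500080100080400080000080000900001100002100004100280100080100300100100100200100000100a20200220200c202004202008202000202006402002402004402008402000402002802004802008802000802002002004002008002000002000a0400c204004204008204000204000c0400440400840400040400080400600400a00400200400400400800400000400060800a20800220800820800020800040800280800880800080800200800c008004008008008000008000210006410002410004410000410002810004810000810002010004010008010000010000620000a2000822000022000042000082000a02000202000c020004020008020000020000240000c4000444000044000084000604000204000404000804000004000028000048000288000088000208000408000808000008000030000050000090000210000410000810000010000820000020000440000040000280000080000300000500000900000100000200000400000800000000000) i1)) (nat_lit 0) (nat_lit 261) List.nil) : List ℕ)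
    = ?xq9017 → (List ℕ)) ?hq9017; (case hq9017 => (set_option maxRecDepth 1000000 in set_option simprocs false in conv => lhs; reduce; dsimp only)); intro _; exact ?xq9017 : List ℕ)

/-- entries `(r, c, i, c', r')`: conjugate `r` by `c`, then by `n_i`, then by `c'`, get `r'` -/
noncomputable def fus : List (ℕ × ℕ × ℕ × ℕ × ℕ) :=
  let y0 : List (ℕ × ℕ × ℕ × ℕ × ℕ) := (by
  refine (?fq9018 : (pk61l (fun i0 => (_root_.Prod.mk (pk61d (nat_lit 24) 
    (nat_lit 0x202020048020008000201000009020042020050020010000204000440040088040008000062000148a20200220200000401000014000188640200240200000108280200200200000048020200000042000101022002280101040084300101100101900042c00048c20200100042400048420200000840) i0) (_root_.Prod.mk (pk61d (nat_lit 22) 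
    (nat_lit 0x200008100020200420400081000000002000000) (pk61d (nat_lit 3) 
    (nat_lit 0x210003000000100140c00) i0)) (_root_.Prod.mk (pk61d (nat_lit 2) 
    (nat_lit 0x7dbf7a45914510ea9147) i0) (_root_.Prod.mk (pk61d (nat_lit 19) 
    (nat_lit 0x80000200200044000820001000014000100000) (pk61d (nat_lit 3) 
    (nat_lit 0x428003030000100040e00) i0)) (pk61d (nat_lit 24) 
    (nat_lit 0x4400400880400080004010000140400840400a00400200004800004800801100800100000d00a04000a04000a04000008040000900c04000c04000c0400080400080400080400020400020400020002080001044004080101080101500084100084a00050c20400c20400200050420400420400001080) i0)))))) (nat_lit 0) (nat_lit 40) List.nil : List (ℕ × ℕ × ℕ × ℕ × ℕ))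
    = ?xq9018 → (List (ℕ × ℕ × ℕ × ℕ × ℕ))) ?hq9018; (case hq9018 => (set_option maxRecDepth 1000000 in set_option simprocs false in conv => lhs; reduce; dsimp only)); intro _; exact ?xq9018 : List (ℕ × ℕ × ℕ × ℕ × ℕ))
  let y1 : List (ℕ × ℕ × ℕ × ℕ × ℕ) := (by
  refine (?fq9019 : (fun tl : List (ℕ × ℕ × ℕ × ℕ × ℕ) => pk61l (fun i0 => (_root_.Prod.mk (pk61d (nat_lit 24) 
    (nat_lit 0x400a00400200004800801104000884402000800106000084802004000084002000000220210020000d00a04000008040000900c0400080400000088040200000050020400000084020002080001002002288001044004080101800048820200800088840200a00008880200800008800200090001500084100084030002a00050c204002000504204000010800801200800200009002001104404002000106004004004000010020000600240400608000020800408002000080802000001100404000000a0020800040004020040200001800002000001000002000008000200208001004004088001200101800042800050820400800110840400c00010a004008000108004000500046000a02000a0028040a20800220800001100200120200020002100280800200800004040021000062000042000400010200400000120080800) i0) (_root_.Prod.mk (pk61d (nat_lit 18) 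
    (nat_lit 0x200081000002040080400080000c0000) (pk61d (nat_lit 3) 
    (nat_lit 0x1000000002c000000000000c0000000000001000000000004a00000000000) i0)) (_root_.Prod.mk (pk61d (nat_lit 2) 
    (nat_lit 0xa914454928485e91111952295229044485e6469822224054051f21) i0) (_root_.Prod.mk (pk61d (nat_lit 18) 
    (nat_lit 0x8800a0001080081008002200040000100002000040000) (pk61d (nat_lit 4) 
    (nat_lit 0x2000000000900000000000830000000000002000400000000000000000700000000000000045000006000100000) i0)) (pk61d (nat_lit 24) 
    (nat_lit 0x80120080020000900200110440400440400200010600400600400400400400400000060024040060800060800002080040800040800040800040400040400020800020800040004020040200001004004088001088001200101820400820400840400840400a00400a004008004008004000500046000a02000a0028040a20800a20800220800220800001100200120200020002100280800280800200800200800200800004040021000062000062000042000042000200400200400080800080800041000022000040080040080400004800040000004000040000400000400008001008001210001400084820002820800820800880800880800c00800c008008008008008000480806410002410000a20000a20000a2000004100281000201000082000082000082000024000024000024000024000400800400800081000202000)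 i0)))))) (nat_lit 0) (nat_lit 108) tl)
    = ?xq9019 → (List (ℕ × ℕ × ℕ × ℕ × ℕ))) ?hq9019; (case hq9019 => (set_option maxRecDepth 1000000 in set_option simprocs false in conv => lhs; reduce; dsimp only)); intro _; exact ?xq9019 y0 : List (ℕ × ℕ × ℕ × ℕ × ℕ))
  (by
  refine (?fq9020 : (fun tl : List (ℕ × ℕ × ℕ × ℕ × ℕ) => pk61l (fun i0 => (_root_.Prod.mk (pk61d (nat_lit 24) 
    (nat_lit 0x410000220000400804000048000400000040000400000100004000080012100018100022800014000848200024000a0820800400120880800400020c008008008000480806410002410000a2000004100281000201000082000008040024000800020400800081000202000044000080100400080820000000080020000000020000800010001010002300001410004900002440004820040441000822000481000a02000401000c020008020000080800c4000084000028000801000402000204000088000200100440000000100040000001000002000100001010004100002500004900040440080444000604000404000048000030000804000408000210000280000080000004000100004100040500080280100288000208000050000808000410000300000200000008000100080300100090000810000500000400000010000) i0) (_root_.Prod.mk (pk61d (nat_lit 14)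 
    (nat_lit 0x200008202020020000) (pk61d (nat_lit 3) 
    (nat_lit 0x10004000000000000000000000000000000000000000000008000200000018000) i0)) (_root_.Prod.mk (pk61d (nat_lit 2) 
    (nat_lit 0x7910988444517172179331885dddf297922785ea9e459e564a603c) i0) (_root_.Prod.mk (pk61d (nat_lit 12) 
    (nat_lit 0x848208200080008002001000) (pk61d (nat_lit 3) 
    (nat_lit 0x27003000000000000000000000202000000000000002000000000180000028000) i0)) (pk61d (nat_lit 24) 
    (nat_lit 0x44000044000080100400080820000000080020000000800000800010001410004900002440004440004820040441000822000481000a02000401000c020008020000c40000c40000c40000c4000084000084000084000084000028000028000801000402000204000204000088000200100440000440000040000040000001000002000010004100002500004500004900040440080440080444000444000604000604000404000404000404000048000048000048000030000804000804000408000210000280000280000080000080000004000004000100004100004100040500080500080280100288000208000208000050000050000808000410000300000300000200000008000100080100080300100300100090000090000090000810000500000500000400000010000100100100100100100900000900000800000100000)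 i0)))))) (nat_lit 0) (nat_lit 108) tl)
    = ?xq9020 → (List (ℕ × ℕ × ℕ × ℕ × ℕ))) ?hq9020; (case hq9020 => (set_option maxRecDepth 1000000 in set_option simprocs false in conv => lhs; reduce; dsimp only)); intro _; exact ?xq9020 y1 : List (ℕ × ℕ × ℕ × ℕ × ℕ))

/-! ### The tree -/

/-- up to conjugation in `U`, elements with square trivial modulo the bits `≥ k` are, modulo the bits `≥ k`,
among `R` -/
def P (k : ℕ) (R : List ℕ) : Prop :=
  ∀ u, mulU u u % 2 ^ k = 0 → ∃ c, ∃ r ∈ R, conjU c u % 2 ^ k = r

theorem conjU_mulU (c c' a : ℕ) : conjU (mulU c c') a % 2 ^ 24 = conjU c (conjU c' a) % 2 ^ 24 := by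
  rw [← mod_24, el_conjU, el_conjU, el_conjU, el_mulU]
  group

theorem mod_of_24 {a b k : ℕ} (hk : k ≤ 24) (h : a % 2 ^ 24 = b % 2 ^ 24) :
    a % 2 ^ k = b % 2 ^ k := by
  have h1 : 2 ^ k ∣ 2 ^ 24 := pow_dvd_pow 2 hk
  rw [← Nat.mod_mod_of_dvd a h1, h, Nat.mod_mod_of_dvd b h1]

theorem mem_nxt {k : ℕ} : ∀ (l : List (ℕ × ℕ)) (r tag : ℕ), (r, tag) ∈ l → tag ≠ 0 →
    r ∈ nxt k l ∧ (tag = 1 → r + 2 ^ k ∈ nxt k l)
  | [], _, _, h, _ => absurd h (by simp)
  | (s, 0) :: l, r, tag, h, ht => by
    rw [List.mem_cons] at h
    rcases h with h | h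
    · rw [Prod.mk.injEq] at h
      exact absurd h.2 ht
    · exact mem_nxt l r tag h ht
  | (s, 1) :: l, r, tag, h, ht => by
    rw [List.mem_cons] at h
    rcases h with h | h
    · rw [Prod.mk.injEq] at h
      obtain ⟨rfl, rfl⟩ := h
      exact ⟨by simp [nxt], fun _ => by simp [nxt]⟩
    · have h1 := mem_nxt (k := k) l r tag h ht
      exact ⟨by simp [nxt, h1.1], fun h2 => by simp [nxt, h1.2 h2]⟩
  | (s, c + 2) :: l, r, tag, h, ht => by
    rw [List.mem_cons] at h
    rcases h with h | h
    · rw [Prod.mk.injEq] at h
      obtain ⟨rfl, rfl⟩ := h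
      exact ⟨by simp [nxt], fun h2 => by omega⟩
    · have h1 := mem_nxt (k := k) l r tag h ht
      exact ⟨by simp [nxt, h1.1], fun h2 => by simp [nxt, h1.2 h2]⟩

theorem P_step {k : ℕ} (hk : k < 24) (l : List (ℕ × ℕ)) (R' : List ℕ) (hR : nxt k l = R')
    (hl : levOK k l = true) (h : P k (l.map Prod.fst)) : P (k + 1) R' := by
  subst hR
  intro u hu
  have hp : 2 ^ (k + 1) = 2 ^ k * 2 := pow_succ 2 k
  have hd : 2 ^ k ∣ 2 ^ (k + 1) := Dvd.intro _ hp.symm
  have hpos : 0 < 2 ^ k := Nat.two_pow_pos k
  have hu' : mulU u u % 2 ^ k = 0 := by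
    rw [← Nat.mod_mod_of_dvd _ hd, hu, Nat.zero_mod]
  obtain ⟨c, r, hr, hc⟩ := h u hu'
  obtain ⟨⟨r', tag⟩, hmem, hr'⟩ := List.mem_map.1 hr
  have hr'' : r' = r := hr'
  subst hr''
  -- the square of the conjugate
  have hsq : mulU (conjU c u) (conjU c u) % 2 ^ (k + 1) = 0 := by
    have h1 : mulU (conjU c u) (conjU c u) % 2 ^ 24 = conjU c (mulU u u) % 2 ^ 24 := by
      rw [← mod_24, el_mulU, el_conjU, el_conjU, el_mulU]
      group
    have h2 : conjU c (mulU u u) % 2 ^ (k + 1) = conjU c 0 % 2 ^ (k + 1) :=
      conjU_mod (by omega) c (by rw [hu, Nat.zero_mod])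
    have h3 : conjU c 0 % 2 ^ 24 = 0 % 2 ^ 24 := by
      rw [← mod_24, el_conjU, el_zero, mul_one, mul_inv_cancel]
    rw [mod_of_24 (by omega) h1, h2, mod_of_24 (by omega) h3, Nat.zero_mod]
  -- the low `k + 1` bits
  have hcase : conjU c u % 2 ^ (k + 1) = r' ∨ conjU c u % 2 ^ (k + 1) = r' + 2 ^ k := by
    have h1 : conjU c u % 2 ^ (k + 1) % 2 ^ k = r' := by rw [Nat.mod_mod_of_dvd _ hd, hc]
    have h2 : conjU c u % 2 ^ (k + 1) < 2 ^ k * 2 := by rw [hp]; exact Nat.mod_lt _ (by omega)
    generalize conjU c u % 2 ^ (k + 1) = y at h1 h2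
    generalize 2 ^ k = z at *
    have h3 := Nat.div_add_mod y z
    have h4 : y / z < 2 := Nat.div_lt_of_lt_mul h2
    have h5 : y / z = 0 ∨ y / z = 1 := by
      have h6 : ∀ w : ℕ, w < 2 → w = 0 ∨ w = 1 := by omega
      exact h6 _ h4
    rcases h5 with h5 | h5
    · left
      rw [h5] at h3
      omega
    · right
      rw [h5] at h3
      omega
  unfold levOK at hl
  rw [List.all_eq_true] at hl
  have hok := hl (r', tag) hmem
  rw [Bool.and_eq_true] at hok
  have hlt : r' < 2 ^ k := by
    have := hok.2
    rwa [Nat.blt_eq] at this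
  have hmod : ∀ y, y < 2 ^ k * 2 → y % 2 ^ (k + 1) = y := fun y hy => Nat.mod_eq_of_lt (by rw [hp]; exact hy)
  have hmm : ∀ y, mulU (conjU c u) (conjU c u) % 2 ^ (k + 1) = 0 → conjU c u % 2 ^ (k + 1) = y →
      y < 2 ^ k * 2 → mulU y y % 2 ^ (k + 1) = 0 := by
    intro y h1 h2 h3
    have h4 : conjU c u % 2 ^ (k + 1) = y % 2 ^ (k + 1) := by rw [hmod y h3, h2]
    rw [← mulU_mod (by omega) h4 h4, h1]
  match tag, hok, hmem with
  | 0, hok, hmem =>
    exfalso
    have h1 := hok.1
    unfold nodeOK at h1
    rw [Bool.and_eq_true, Bool.not_eq_true', Bool.not_eq_true'] at h1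
    rcases hcase with h2 | h2
    · have h3 := hmm _ hsq h2 (by omega)
      have h4 := h1.1
      change Nat.beq (mulU r' r' % 2 ^ (k + 1)) 0 = false at h4
      rw [h3] at h4
      exact Bool.noConfusion h4
    · have h3 := hmm _ hsq h2 (by omega)
      have h4 := h1.2
      change Nat.beq (mulU (r' + 2 ^ k) (r' + 2 ^ k) % 2 ^ (k + 1)) 0 = false at h4
      rw [h3] at h4
      exact Bool.noConfusion h4
  | 1, hok, hmem =>
    have h1 := mem_nxt (k := k) l r' 1 hmem (by omega)
    rcases hcase with h2 | h2
    · exact ⟨c, r', h1.1, h2⟩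
    · exact ⟨c, r' + 2 ^ k, h1.2 rfl, h2⟩
  | c0 + 2, hok, hmem =>
    have h1 := mem_nxt (k := k) l r' (c0 + 2) hmem (by omega)
    rcases hcase with h2 | h2
    · exact ⟨c, r', h1.1, h2⟩
    · refine ⟨mulU c0 c, r', h1.1, ?_⟩
      have h3 : conjU c u % 2 ^ (k + 1) = (r' + 2 ^ k) % 2 ^ (k + 1) := by
        rw [h2, hmod (r' + 2 ^ k) (by omega)]
      rw [mod_of_24 (by omega) (conjU_mulU c0 c u), conjU_mod (by omega) c0 h3]
      have h4 := hok.1
      unfold nodeOK at h4
      exact Nat.eq_of_beq_eq_true h4

theorem P_0 : P 0 [0] := by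
  intro u _
  refine ⟨0, 0, List.mem_singleton.2 rfl, ?_⟩
  rw [pow_zero, Nat.mod_one]

theorem ok_0 : levOK 0 lev0 = true := by decide +kernel

theorem nx_0 : nxt 0 lev0 = lev1.map Prod.fst := by decide +kernel

theorem P_1 : P 1 (lev1.map Prod.fst) := P_step (by omega) lev0 _ nx_0 ok_0 P_0

theorem ok_1 : levOK 1 lev1 = true := by decide +kernel

theorem nx_1 : nxt 1 lev1 = lev2.map Prod.fst := by decide +kernel

theorem P_2 : P 2 (lev2.map Prod.fst) := P_step (by omega) lev1 _ nx_1 ok_1 P_1

theorem ok_2 : levOK 2 lev2 = true := by decide +kernel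

theorem nx_2 : nxt 2 lev2 = lev3.map Prod.fst := by decide +kernel

theorem P_3 : P 3 (lev3.map Prod.fst) := P_step (by omega) lev2 _ nx_2 ok_2 P_2

theorem ok_3 : levOK 3 lev3 = true := by decide +kernel

theorem nx_3 : nxt 3 lev3 = lev4.map Prod.fst := by decide +kernel

theorem P_4 : P 4 (lev4.map Prod.fst) := P_step (by omega) lev3 _ nx_3 ok_3 P_3

theorem ok_4 : levOK 4 lev4 = true := by decide +kernel

theorem nx_4 : nxt 4 lev4 = lev5.map Prod.fst := by decide +kernel

theorem P_5 : P 5 (lev5.map Prod.fst) := P_step (by omega) lev4 _ nx_4 ok_4 P_4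

theorem ok_5 : levOK 5 lev5 = true := by decide +kernel

theorem nx_5 : nxt 5 lev5 = lev6.map Prod.fst := by decide +kernel

theorem P_6 : P 6 (lev6.map Prod.fst) := P_step (by omega) lev5 _ nx_5 ok_5 P_5

theorem ok_6 : levOK 6 lev6 = true := by decide +kernel

theorem nx_6 : nxt 6 lev6 = lev7.map Prod.fst := by decide +kernel

theorem P_7 : P 7 (lev7.map Prod.fst) := P_step (by omega) lev6 _ nx_6 ok_6 P_6

theorem ok_7 : levOK 7 lev7 = true := by decide +kernel

theorem nx_7 : nxt 7 lev7 = lev8.map Prod.fst := by decide +kernel

theorem P_8 : P 8 (lev8.map Prod.fst) := P_step (by omega) lev7 _ nx_7 ok_7 P_7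

theorem ok_8 : levOK 8 lev8 = true := by decide +kernel

theorem nx_8 : nxt 8 lev8 = lev9.map Prod.fst := by decide +kernel

theorem P_9 : P 9 (lev9.map Prod.fst) := P_step (by omega) lev8 _ nx_8 ok_8 P_8

theorem ok_9 : levOK 9 lev9 = true := by decide +kernel

theorem nx_9 : nxt 9 lev9 = lev10.map Prod.fst := by decide +kernel

theorem P_10 : P 10 (lev10.map Prod.fst) := P_step (by omega) lev9 _ nx_9 ok_9 P_9

theorem ok_10 : levOK 10 lev10 = true := by decide +kernel

theorem nx_10 : nxt 10 lev10 = lev11.map Prod.fst := by decide +kernel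

theorem P_11 : P 11 (lev11.map Prod.fst) := P_step (by omega) lev10 _ nx_10 ok_10 P_10

theorem ok_11 : levOK 11 lev11 = true := by decide +kernel

theorem nx_11 : nxt 11 lev11 = lev12.map Prod.fst := by decide +kernel

theorem P_12 : P 12 (lev12.map Prod.fst) := P_step (by omega) lev11 _ nx_11 ok_11 P_11

theorem ok_12 : levOK 12 lev12 = true := by decide +kernel

theorem nx_12 : nxt 12 lev12 = lev13.map Prod.fst := by decide +kernel

theorem P_13 : P 13 (lev13.map Prod.fst) := P_step (by omega) lev12 _ nx_12 ok_12 P_12

theorem ok_13 : levOK 13 lev13 = true := by decide +kernel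

theorem nx_13 : nxt 13 lev13 = lev14.map Prod.fst := by decide +kernel

theorem P_14 : P 14 (lev14.map Prod.fst) := P_step (by omega) lev13 _ nx_13 ok_13 P_13

theorem ok_14 : levOK 14 lev14 = true := by decide +kernel

theorem nx_14 : nxt 14 lev14 = lev15.map Prod.fst := by decide +kernel

theorem P_15 : P 15 (lev15.map Prod.fst) := P_step (by omega) lev14 _ nx_14 ok_14 P_14

theorem ok_15 : levOK 15 lev15 = true := by decide +kernel

theorem nx_15 : nxt 15 lev15 = lev16.map Prod.fst := by decide +kernel

theorem P_16 : P 16 (lev16.map Prod.fst) := P_step (by omega) lev15 _ nx_15 ok_15 P_15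

theorem ok_16 : levOK 16 lev16 = true := by decide +kernel

theorem nx_16 : nxt 16 lev16 = lev17.map Prod.fst := by decide +kernel

theorem P_17 : P 17 (lev17.map Prod.fst) := P_step (by omega) lev16 _ nx_16 ok_16 P_16

theorem ok_17 : levOK 17 lev17 = true := by decide +kernel

theorem nx_17 : nxt 17 lev17 = lev18.map Prod.fst := by decide +kernel

theorem P_18 : P 18 (lev18.map Prod.fst) := P_step (by omega) lev17 _ nx_17 ok_17 P_17

theorem ok_18 : levOK 18 lev18 = true := by decide +kernel

theorem nx_18 : nxt 18 lev18 = lev19.map Prod.fst := by decide +kernel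

theorem P_19 : P 19 (lev19.map Prod.fst) := P_step (by omega) lev18 _ nx_18 ok_18 P_18

theorem ok_19 : levOK 19 lev19 = true := by decide +kernel

theorem nx_19 : nxt 19 lev19 = lev20.map Prod.fst := by decide +kernel

theorem P_20 : P 20 (lev20.map Prod.fst) := P_step (by omega) lev19 _ nx_19 ok_19 P_19

theorem ok_20 : levOK 20 lev20 = true := by decide +kernel

theorem nx_20 : nxt 20 lev20 = lev21.map Prod.fst := by decide +kernel

theorem P_21 : P 21 (lev21.map Prod.fst) := P_step (by omega) lev20 _ nx_20 ok_20 P_20

theorem ok_21 : levOK 21 lev21 = true := by decide +kernel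

theorem nx_21 : nxt 21 lev21 = lev22.map Prod.fst := by decide +kernel

theorem P_22 : P 22 (lev22.map Prod.fst) := P_step (by omega) lev21 _ nx_21 ok_21 P_21

theorem ok_22 : levOK 22 lev22 = true := by decide +kernel

theorem nx_22 : nxt 22 lev22 = lev23.map Prod.fst := by decide +kernel

theorem P_23 : P 23 (lev23.map Prod.fst) := P_step (by omega) lev22 _ nx_22 ok_22 P_22

theorem ok_23 : levOK 23 lev23 = true := by decide +kernel

theorem nx_23 : nxt 23 lev23 = reps := by decide +kernel

theorem P_24 : P 24 (reps) := P_step (by omega) lev23 _ nx_23 ok_23 P_23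


/-- **`U`-classes of involutions**: every element of `U` with square `1` is conjugate in `U` to some
element with code in `reps`. -/
theorem exists_rep {g : GL Cfsg.Lie.chevF4.Idx (ZMod 2)} (hg : g ∈ Cfsg.Lie.chevF4.posUnipotent (ZMod 2))
    (h2 : g * g = 1) : ∃ c, ∃ r ∈ reps, el (ZMod 2) c * g * (el (ZMod 2) c)⁻¹ = el (ZMod 2) r := by
  obtain ⟨u, _, rfl⟩ := exists_code hg
  have h3 : mulU u u % 2 ^ 24 = 0 := by
    have h4 : mulU u u % 2 ^ 24 = 0 % 2 ^ 24 := by
      rw [← mod_24, el_mulU, h2, el_zero]
    rw [h4, Nat.zero_mod]
  obtain ⟨c, r, hr, hc⟩ := P_24 u h3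
  refine ⟨c, r, hr, ?_⟩
  rw [← el_conjU, mod_24, ← hc, Nat.mod_mod]

/-! ### Fusion -/

/-- check of the list of fusions, given the list of numbers already treated -/
def fusOK : List (ℕ × ℕ × ℕ × ℕ × ℕ) → List ℕ → Bool
  | [], _ => true
  | e :: l, done => e.2.2.2.2 ∈ done && Nat.blt e.2.2.1 4 &&
      Nat.beq (Nat.land (conjU e.2.1 e.1) (2 ^ (Cfsg.Agent.ChevalleyStructure.TwF4.Rel.sp e.2.2.1 - 24))) 0 &&
      Nat.beq (conjU e.2.2.2.1 (reflU e.2.2.1 (conjU e.2.1 e.1))) e.2.2.2.2 && fusOK l (e.1 :: done)

/-- codes of the representatives of the four classes: `x_44`, `x_47`, `x_44 x_47`, `x_44 x_32` -/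
def targets : List ℕ := [1048576, 8388608, 9437184, 1048832]

theorem fusOK_fus : fusOK fus targets = true := by decide +kernel

theorem reps_sub : (reps.all fun r => Nat.beq r 0 || decide (r ∈ targets) ||
    decide (r ∈ fus.map fun e => e.1)) = true := by (rewrite [H90F.mn_fun, H90F.al_fun, H90F.mp_fun]; decide +kernel)

/-- conjugate in the subgroup `G` -/
def Cj (G : Subgroup (GL Cfsg.Lie.chevF4.Idx (ZMod 2))) (a b : ℕ) : Prop :=
  ∃ g ∈ G, g * el (ZMod 2) a * g⁻¹ = el (ZMod 2) b

theorem Cj.trans {G : Subgroup (GL Cfsg.Lie.chevF4.Idx (ZMod 2))} {a b c : ℕ} (h : Cj G a b) (h' : Cj G b c) :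
    Cj G a c := by
  obtain ⟨g, hg, h1⟩ := h
  obtain ⟨g', hg', h2⟩ := h'
  refine ⟨g' * g, G.mul_mem hg' hg, ?_⟩
  rw [← h2, ← h1]
  group

open Cfsg.Agent.ChevalleyStructure.TwF4.Rel in
theorem fus_spec {G : Subgroup (GL Cfsg.Lie.chevF4.Idx (ZMod 2))}
    (hU : Cfsg.Lie.chevF4.posUnipotent (ZMod 2) ≤ G) (hn : ∀ i < 4, nG (ZMod 2) (sp i) ∈ G) :
    ∀ (l : List (ℕ × ℕ × ℕ × ℕ × ℕ)) (done : List ℕ), fusOK l done = true →
      (∀ r ∈ done, ∃ t ∈ targets, Cj G r t) → ∀ e ∈ l, ∃ t ∈ targets, Cj G e.1 t
  | [], _, _, _, e, he => absurd he (by simp)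
  | e :: l, done, h, hd, e', he' => by
    unfold fusOK at h
    rw [Bool.and_eq_true, Bool.and_eq_true, Bool.and_eq_true, Bool.and_eq_true] at h
    obtain ⟨⟨⟨⟨h1, h2⟩, h3⟩, h4⟩, h5⟩ := h
    have h1 := of_decide_eq_true h1
    have h2 : e.2.2.1 < 4 := by rwa [Nat.blt_eq] at h2
    have h3 : (conjU e.2.1 e.1).testBit (sp e.2.2.1 - 24) = false := by
      rw [land_pow_eq_zero, Bool.not_eq_true'] at h3
      exact h3
    have h4 := Nat.eq_of_beq_eq_true h4
    have key : ∃ t ∈ targets, Cj G e.1 t := by
      obtain ⟨t, ht, hct⟩ := hd _ h1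
      refine ⟨t, ht, Cj.trans ⟨el (ZMod 2) e.2.2.2.1 * nG (ZMod 2) (sp e.2.2.1) * el (ZMod 2) e.2.1,
        G.mul_mem (G.mul_mem (hU (el_mem _ _)) (hn _ h2)) (hU (el_mem _ _)), ?_⟩ hct⟩
      rw [← h4, el_conjU, el_reflU (ZMod 2) h2 h3, el_conjU]
      group
    rw [List.mem_cons] at he'
    rcases he' with rfl | he'
    · exact key
    · refine fus_spec hU hn l (e.1 :: done) h5 ?_ e' he'
      intro r hr
      rw [List.mem_cons] at hr
      rcases hr with rfl | hr
      · exact key
      · exact hd r hr

open Cfsg.Agent.ChevalleyStructure.TwF4.Rel in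
/-- **Involutions of `U`, up to conjugation in a group containing `U` and the `n_i`.** -/
theorem exists_target {G : Subgroup (GL Cfsg.Lie.chevF4.Idx (ZMod 2))}
    (hU : Cfsg.Lie.chevF4.posUnipotent (ZMod 2) ≤ G) (hn : ∀ i < 4, nG (ZMod 2) (sp i) ∈ G)
    {g : GL Cfsg.Lie.chevF4.Idx (ZMod 2)} (hg : g ∈ Cfsg.Lie.chevF4.posUnipotent (ZMod 2))
    (h2 : g * g = 1) (h1 : g ≠ 1) :
    ∃ y ∈ G, ∃ t ∈ targets, y * g * y⁻¹ = el (ZMod 2) t := by
  obtain ⟨c, r, hr, hc⟩ := exists_rep hg h2
  have hs := reps_sub
  rw [List.all_eq_true] at hs
  have h3 := hs r hr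
  rw [Bool.or_eq_true, Bool.or_eq_true] at h3
  have h4 : ∃ t ∈ targets, Cj G r t := by
    rcases h3 with (h3 | h3) | h3
    · exfalso
      have h5 := Nat.eq_of_beq_eq_true h3
      subst h5
      rw [el_zero, mul_inv_eq_one, mul_eq_left] at hc
      exact h1 hc
    · exact ⟨r, of_decide_eq_true h3, 1, G.one_mem, by simp⟩
    · obtain ⟨e, he, rfl⟩ := List.mem_map.1 (of_decide_eq_true h3)
      refine fus_spec hU hn fus targets fusOK_fus ?_ e he
      intro t ht
      exact ⟨t, ht, 1, G.one_mem, by simp⟩
  obtain ⟨t, ht, y, hy, hyt⟩ := h4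
  refine ⟨y * el (ZMod 2) c, G.mul_mem hy (hU (el_mem _ _)), t, ht, ?_⟩
  rw [← hyt, ← hc]
  group

end Cfsg.Agent.FourTwo.InvCert
end

-- part: FourTwo/Classes
section
/-!
# The involutions of `F₄(2)`

`US` is a Sylow `2`-subgroup of `LL`; every involution of `LL` is conjugate to one of
`x 44` (short root), `x 47` (long root), `x 44 * x 47`, `x 44 * x 32`.
-/

set_option autoImplicit false

namespace Cfsg.Agent.FourTwo.Classes

open Cfsg.Lie Cfsg.Agent.ChevalleyStructure.TwF4.Rel Cfsg.Agent.ChevalleyStructure.TwF4.Tables
open Cfsg.Agent.FourTwo.Base Cfsg.Agent.FourTwo.UCode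

theorem wel_mem_group (w : List ℕ) : wel (ZMod 2) w ∈ chevF4.group (ZMod 2) := by
  induction w with
  | nil => exact Subgroup.one_mem _
  | cons c w ih =>
    rw [wel_cons]
    exact Subgroup.mul_mem _ (X_mem _) ih

theorem el_mem_group (e : ℕ) : el (ZMod 2) e ∈ chevF4.group (ZMod 2) := by
  rw [← wel_lets]
  exact wel_mem_group _

theorem pos_le : chevF4.posUnipotent (ZMod 2) ≤ chevF4.group (ZMod 2) := by
  intro g hg
  obtain ⟨e, _, rfl⟩ := exists_code hg
  exact el_mem_group e

/-- the element of `LL` with code `e` -/
def ec (e : ℕ) : LL := ⟨el (ZMod 2) e, el_mem_group e⟩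

@[simp] theorem coe_ec (e : ℕ) : ((ec e : LL) : GL chevF4.Idx (ZMod 2)) = el (ZMod 2) e := rfl

theorem ec_mulU (a b : ℕ) : ec (mulU a b) = ec a * ec b := Subtype.ext (el_mulU _ a b)

theorem ec_invU (a : ℕ) : ec (invU a) = (ec a)⁻¹ := Subtype.ext (el_invU _ a)

theorem ec_conjU (c a : ℕ) : ec (conjU c a) = ec c * ec a * (ec c)⁻¹ := Subtype.ext (el_conjU _ c a)

theorem ec_zero : ec 0 = 1 := Subtype.ext (el_zero _)

theorem ec_reflU {i a : ℕ} (hi : i < 4) (h : a.testBit (sp i - 24) = false) :
    ec (reflU i a) = n i * ec a * (n i)⁻¹ := Subtype.ext (el_reflU _ hi h)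

theorem ec_inj {e e' : ℕ} (he : e < 2 ^ 24) (he' : e' < 2 ^ 24) (h : ec e = ec e') : e = e' := by
  have h1 : el (ZMod 2) e = el (ZMod 2) e' := by
    rw [← coe_ec, ← coe_ec, h]
  exact el_inj (ZMod 2) he he' h1

theorem coe_wd_eq_wel (w : List ℕ) :
    ((wd (w.map fun j => 24 + j) : LL) : GL chevF4.Idx (ZMod 2)) = wel (ZMod 2) w := by
  induction w with
  | nil => rfl
  | cons c w ih =>
    rw [List.map_cons, wd_cons, wel_cons, ← ih]
    rfl

theorem wd_eq_ec (w : List ℕ) (h : ∀ c ∈ w, c < 24) : wd (w.map fun j => 24 + j) = ec (colW w) := by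
  apply Subtype.ext
  rw [coe_wd_eq_wel, coe_ec, colW_spec _ _ h]

/-- the code of a product of positive root elements -/
theorem wd_eq_ec' (w : List ℕ) (h : (w.all fun r => decide (24 ≤ r ∧ r < 48)) = true) (e : ℕ)
    (he : colW (w.map fun r => r - 24) = e) : wd w = ec e := by
  rw [List.all_eq_true] at h
  rw [← he, ← wd_eq_ec]
  · congr 1
    rw [List.map_map]
    conv_lhs => rw [← List.map_id w]
    apply List.map_congr_left
    intro r hr
    have := of_decide_eq_true (h r hr)
    show r = 24 + (r - 24)
    omega
  · intro c hc
    obtain ⟨r, hr, rfl⟩ := List.mem_map.1 hc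
    have := of_decide_eq_true (h r hr)
    omega

theorem x_eq_ec {r : ℕ} (hr : 24 ≤ r) (hr' : r < 48) : x r = ec (2 ^ (r - 24)) := by
  have h := wd_eq_ec' [r] (by simp [hr, hr']) (2 ^ (r - 24)) ?_
  · rwa [wd_one] at h
  · obtain ⟨j, rfl⟩ : ∃ j, r = 24 + j := ⟨r - 24, by omega⟩
    have hj : j < 24 := by omega
    have h1 : ∀ j < 24, colW ([24 + j].map fun r => r - 24) = 2 ^ (24 + j - 24) := by decide +kernel
    exact h1 j hj

/-- the subgroup `U` of `LL` -/
def UL : Subgroup LL := (chevF4.posUnipotent (ZMod 2)).subgroupOf (chevF4.group (ZMod 2))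

theorem mem_UL {g : LL} : g ∈ UL ↔ (g : GL chevF4.Idx (ZMod 2)) ∈ chevF4.posUnipotent (ZMod 2) :=
  Subgroup.mem_subgroupOf

theorem mem_UL_iff_ec {g : LL} : g ∈ UL ↔ ∃ e, e < 2 ^ 24 ∧ g = ec e := by
  rw [mem_UL]
  constructor
  · intro h
    obtain ⟨e, he, h1⟩ := exists_code h
    exact ⟨e, he, Subtype.ext h1⟩
  · rintro ⟨e, _, rfl⟩
    exact el_mem (ZMod 2) e

theorem ec_mem_UL (e : ℕ) : ec e ∈ UL := mem_UL.2 (el_mem (ZMod 2) e)

theorem x_mem_UL {r : ℕ} (hr : 24 ≤ r) (hr' : r < 48) : x r ∈ UL := by
  rw [x_eq_ec hr hr']
  exact ec_mem_UL _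

theorem card_UL : Nat.card UL = 2 ^ 24 := by
  rw [← card_pos]
  exact Nat.card_congr (Subgroup.subgroupOfEquivOfLe pos_le).toEquiv

theorem card_LL : Nat.card LL = 2 ^ 24 * ((2 ^ 2 - 1) * (2 ^ 6 - 1) * (2 ^ 8 - 1) * (2 ^ 12 - 1)) := by
  have h := Cfsg.Agent.S1062.result (F := ZMod 2) (q := 2) (ZMod.card 2)
  rw [show Nat.card LL = Nat.card ↥(chevF4.group (ZMod 2)) from rfl, h]
  simp only [mul_assoc]

instance finite_LL : Finite LL := Nat.finite_of_card_ne_zero (by rw [card_LL]; norm_num)

theorem isPGroup_UL : IsPGroup 2 UL := IsPGroup.of_card card_UL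

theorem index_UL : UL.index = (2 ^ 2 - 1) * (2 ^ 6 - 1) * (2 ^ 8 - 1) * (2 ^ 12 - 1) := by
  have h := UL.card_mul_index
  rw [card_UL, card_LL] at h
  exact Nat.eq_of_mul_eq_mul_left (by norm_num) h

/-- `U` as a Sylow `2`-subgroup -/
noncomputable def US : Sylow 2 LL := isPGroup_UL.toSylow (by
  rw [index_UL]
  norm_num)

theorem coe_US : (US : Subgroup LL) = UL := rfl

/-- every `2`-subgroup of `LL` is conjugate to a subgroup of `U` -/
theorem exists_conj_le {Q : Subgroup LL} (hQ : IsPGroup 2 Q) : ∃ y : LL, ∀ g ∈ Q, y * g * y⁻¹ ∈ UL := by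
  obtain ⟨S, hS⟩ := hQ.exists_le_sylow
  haveI : Fact (Nat.Prime 2) := ⟨Nat.prime_two⟩
  obtain ⟨y, hy⟩ := MulAction.exists_smul_eq LL S US
  refine ⟨y, fun g hg => ?_⟩
  rw [← coe_US, ← hy, Sylow.coe_subgroup_smul]
  exact ⟨g, hS hg, by simp⟩

theorem exists_conj_mem {g : LL} (h2 : g * g = 1) : ∃ y : LL, y * g * y⁻¹ ∈ UL := by
  have hQ : IsPGroup 2 (Subgroup.zpowers g) := by
    rintro ⟨h, hh⟩
    obtain ⟨k, rfl⟩ := Subgroup.mem_zpowers_iff.1 hh
    refine ⟨1, Subtype.ext ?_⟩
    show (g ^ k) ^ (2 ^ 1) = 1
    rw [pow_one, sq, ← zpow_add, ← two_mul, zpow_mul]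
    have h3 : g ^ (2 : ℤ) = 1 := by
      rw [zpow_two, h2]
    rw [h3, one_zpow]
  obtain ⟨y, hy⟩ := exists_conj_le hQ
  exact ⟨y, hy g (Subgroup.mem_zpowers g)⟩

theorem two_pow_20 : 2 ^ (44 - 24) = 1048576 := by norm_num
theorem two_pow_23 : 2 ^ (47 - 24) = 8388608 := by norm_num
theorem two_pow_8 : 2 ^ (32 - 24) = 256 := by norm_num
theorem mulU_a : mulU 1048576 8388608 = 9437184 := by decide +kernel
theorem mulU_b : mulU 1048576 256 = 1048832 := by decide +kernel

theorem ec44 : x 44 = ec 1048576 := by rw [x_eq_ec (by omega) (by omega), two_pow_20]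
theorem ec47 : x 47 = ec 8388608 := by rw [x_eq_ec (by omega) (by omega), two_pow_23]
theorem ec32 : x 32 = ec 256 := by rw [x_eq_ec (by omega) (by omega), two_pow_8]

/-- **The classes of involutions of `F₄(2)`.** -/
theorem exists_class {g : LL} (h2 : g * g = 1) (h1 : g ≠ 1) : ∃ y : LL,
    y * g * y⁻¹ = x 44 ∨ y * g * y⁻¹ = x 47 ∨ y * g * y⁻¹ = x 44 * x 47 ∨
      y * g * y⁻¹ = x 44 * x 32 := by
  obtain ⟨y, hy⟩ := exists_conj_mem h2
  have h3 : (y * g * y⁻¹) * (y * g * y⁻¹) = 1 := by
    have : (y * g * y⁻¹) * (y * g * y⁻¹) = y * (g * g) * y⁻¹ := by group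
    rw [this, h2, mul_one, mul_inv_cancel]
  have h4 : y * g * y⁻¹ ≠ 1 := by
    intro h
    rw [mul_inv_eq_one, mul_eq_left] at h
    exact h1 h
  have h3' : ((y * g * y⁻¹ : LL) : GL chevF4.Idx (ZMod 2)) * ((y * g * y⁻¹ : LL) : GL chevF4.Idx (ZMod 2)) = 1 := by
    rw [← Subgroup.coe_mul, h3, Subgroup.coe_one]
  obtain ⟨z, hz, t, ht, hzt⟩ := InvCert.exists_target (G := chevF4.group (ZMod 2)) pos_le
    (fun i _ => nG_mem) (mem_UL.1 hy) h3' (fun h => h4 (Subtype.ext h))
  refine ⟨⟨z, hz⟩ * y, ?_⟩
  have h5 : (⟨z, hz⟩ * y) * g * (⟨z, hz⟩ * y)⁻¹ = ec t := by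
    apply Subtype.ext
    rw [coe_ec, ← hzt]
    show z * y * g * (z * y)⁻¹ = z * (y * g * (y : GL chevF4.Idx (ZMod 2))⁻¹) * z⁻¹
    group
  rw [h5]
  rw [ec44, ec47, ec32, ← ec_mulU, ← ec_mulU, mulU_a, mulU_b]
  unfold InvCert.targets at ht
  simp only [List.mem_cons, List.not_mem_nil, or_false] at ht
  rcases ht with rfl | rfl | rfl | rfl
  · exact Or.inl rfl
  · exact Or.inr (Or.inl rfl)
  · exact Or.inr (Or.inr (Or.inl rfl))
  · exact Or.inr (Or.inr (Or.inr rfl))

end Cfsg.Agent.FourTwo.Classes
end

private theorem dce_220e8e0d8dd5 : _root_.True := by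
  try have : _root_.True := by simp only [_root_.Cfsg.Agent.FourTwo.InvCert.nxt.eq_4]
  try have : _root_.True := by simp only [_root_.Cfsg.Agent.FourTwo.InvCert.fusOK.eq_def]
  try have : _root_.True := by simp only [_root_.Cfsg.Agent.FourTwo.InvCert.nxt.eq_def]
  try have : _root_.True := by simp only [_root_.Cfsg.Agent.FourTwo.InvCert.nxt.eq_2]
  try have : _root_.True := by simp only [_root_.Cfsg.Agent.FourTwo.InvCert.nxt.eq_3]
  try have : _root_.True := by simp only [_root_.Cfsg.Agent.FourTwo.UMod.V.congr_simp]
  try have : _root_.True := by simp only [_root_.Cfsg.Agent.FourTwo.InvCert.nxt.eq_1]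
  exact _root_.True.intro
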