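import Cfsg.Agent.FourTwo.Cent
import Cfsg.Agent.S1062
set_option linter.all false

/-!
`F₄(2)`: the order, `U` is a Sylow 2-subgroup (`odd_index`), the subgroups `RG P` are perfect as soon as the Boolean
check `perfB P` succeeds (`perfect_RG`), in particular `Ps` and `Pl` (`perfect_Ps`, `perfect_Pl`).
-/

set_option autoImplicit false

namespace Cfsg.Agent.FourTwo.Perf

open Cfsg.Lie Cfsg.Agent.ChevalleyStructure.TwF4.Rel Cfsg.Agent.ChevalleyStructure.TwF4.Tables
open Cfsg.Agent.ChevalleyStructure.TwF4.Torus (all_of)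
open Cfsg.Agent.ChevalleyStructure.F4TwU
open Cfsg.Agent.FourTwo.Base hiding bar bar_lt
open Cfsg.Agent.FourTwo.Comm Cfsg.Agent.FourTwo.BN Cfsg.Agent.FourTwo.Par Cfsg.Agent.FourTwo.Cent
open scoped commutatorElement

theorem card_LL : Nat.card LL = 2 ^ 24 * (3 * 63 * 255 * 4095) := by
  rw [Cfsg.Agent.S1062.result (F := ZMod 2) (ZMod.card 2)]
  norm_num

instance : Finite LL := Nat.finite_of_card_ne_zero (by rw [card_LL]; norm_num)

theorem closedB_posP : closedB posP = true := by decide +kernel

theorem card_U : Nat.card U = 2 ^ 24 := by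
  rw [U_eq, card_RG closedB_posP]
  rfl

theorem index_U : U.index = 3 * 63 * 255 * 4095 := by
  have h := Subgroup.card_mul_index U
  rw [card_U, card_LL] at h
  exact Nat.eq_of_mul_eq_mul_left (by norm_num) h

theorem odd_index : Odd U.index := by
  rw [index_U]
  decide

/-- `U` is a Sylow 2-subgroup. -/
noncomputable def sylU : Sylow 2 LL := by
  haveI : Fact (Nat.Prime 2) := ⟨Nat.prime_two⟩
  exact IsPGroup.toSylow (IsPGroup.of_card card_U) (by
    intro h
    exact absurd odd_index (by rw [Nat.not_odd_iff_even, even_iff_two_dvd]; exact h))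

theorem coe_sylU : (sylU : Subgroup LL) = U := rfl

/-! ### perfect subgroups -/


/-- `x r` is a commutator in `RG P` -/
def perf1 (P : ℕ → Bool) (r : ℕ) : Bool :=
  (List.range 48).any fun a => P a && (List.range 48).any fun b => P b && (a != b && (a + b != 47 && cmg a b == [r]))

/-- `x r` is a product of two commutators in `RG P` -/
def perf2 (P : ℕ → Bool) (r : ℕ) : Bool :=
  perf1 P r || (List.range 48).any fun a => P a && (List.range 48).any fun b => P b && (a != b && (a + b != 47 &&
    (List.range 48).any fun q => P q && (perf1 P q && (cmg a b == [r, q] || cmg a b == [q, r]))))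

/-- the check for perfectness -/
def perfB (P : ℕ → Bool) : Bool := (List.range 48).all fun r => !P r || perf2 P r

theorem comm_mem {P : ℕ → Bool} {a b : ℕ} (ha : a < 48) (hb : b < 48) (hP : P a = true) (hQ : P b = true)
    (h1 : a ≠ b) (h2 : a + b ≠ 47) : wd (cmg a b) ∈ ⁅RG P, RG P⁆ := by
  have h3 : wd (cmg a b) = ⁅x b, x a⁆ := by
    rw [commutatorElement_def, Base.x_inv, Base.x_inv]
    have h4 := comm_all ha hb h1 h2
    have h5 : wd (cmg a b) = x b * (x b * wd (cmg a b) * x a) * x a := by
      rw [mul_assoc (x b) (wd (cmg a b)), ← mul_assoc (x b) (x b), Base.x_mul_self, one_mul, mul_assoc,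
        Base.x_mul_self, mul_one]
    rw [h5, ← h4, ← mul_assoc]
  rw [h3]
  exact Subgroup.commutator_mem_commutator (x_mem_RG hb hQ) (x_mem_RG ha hP)

theorem of_perf1 {P : ℕ → Bool} {r : ℕ} (h : perf1 P r = true) : x r ∈ ⁅RG P, RG P⁆ := by
  unfold perf1 at h
  simp only [List.any_eq_true, List.mem_range, Bool.and_eq_true, bne_iff_ne, ne_eq, beq_iff_eq] at h
  obtain ⟨a, ha, hP, b, hb, hQ, h1, h2, h3⟩ := h
  have := comm_mem ha hb hP hQ h1 h2
  rwa [h3, wd_one] at this

theorem of_perf2 {P : ℕ → Bool} {r : ℕ} (h : perf2 P r = true) : x r ∈ ⁅RG P, RG P⁆ := by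
  unfold perf2 at h
  rw [Bool.or_eq_true] at h
  rcases h with h | h
  · exact of_perf1 h
  · simp only [List.any_eq_true, List.mem_range, Bool.and_eq_true, bne_iff_ne, ne_eq, Bool.or_eq_true,
      beq_iff_eq] at h
    obtain ⟨a, ha, hP, b, hb, hQ, h1, h2, q, hq, hPq, hq1, h3⟩ := h
    have h4 := comm_mem ha hb hP hQ h1 h2
    have h5 := of_perf1 hq1
    rcases h3 with h3 | h3
    · rw [h3, wd_cons, wd_one] at h4
      have := mul_mem h4 (inv_mem h5)
      rwa [mul_inv_cancel_right] at this
    · rw [h3, wd_cons, wd_one] at h4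
      have := mul_mem (inv_mem h5) h4
      rwa [inv_mul_cancel_left] at this

/-- the subgroup `RG P` is perfect -/
theorem perfect_RG {P : ℕ → Bool} (h : perfB P = true) : ⁅RG P, RG P⁆ = RG P := by
  apply le_antisymm
  · rw [Subgroup.commutator_le]
    intro a ha b hb
    rw [commutatorElement_def]
    exact mul_mem (mul_mem (mul_mem ha hb) (inv_mem ha)) (inv_mem hb)
  · refine RG_le fun r hr hp => ?_
    have h1 := all_of h hr
    rw [hp, Bool.not_true, Bool.false_or] at h1
    exact of_perf2 h1

theorem perfect_Ps : ⁅Ps, Ps⁆ = Ps := perfect_RG (by decide +kernel)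

theorem perfect_Pl : ⁅Pl, Pl⁆ = Pl := perfect_RG (by decide +kernel)

end Cfsg.Agent.FourTwo.Perf
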