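import Cfsg.Agent.FourTwo.CentAll
import Cfsg.Agent.FourTwo.Perf
import Cfsg.Agent.FourTwo.PairW
set_option linter.all false

/-!
# Central extensions of `F₄(2)`: canonical lifts of the root elements

`Ext π`: `π : L → LL` is surjective with central kernel.

* `Ext.comm_of_cent`: a lift of `x r` commutes with every lift of an element commuting with `x r`;
* `Ext.A r`: the canonical lift of `x r`; `A_conj`: equivariance; `A_unique`;
* `Ext.m₀`: the sign of the relation `[A r, A s] = m₀ A (r + s) A (r + 2 s)` (`r` long, `s` short, 135°);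
* `Sys π A m`: the lifts, `A r ^ 2 = 1`, `m ^ 2 = 1` and all the commutator relations; `Ext.sys`.
-/

set_option autoImplicit false

namespace Cfsg.Agent.FourTwo.Lift

open Cfsg.Agent.ChevalleyStructure.TwF4.Torus (all_of)
open Cfsg.Agent.ChevalleyStructure.F4NTab (ct)
open Cfsg.Agent.FourTwo.Base hiding bar_lt x_mul_self
open Cfsg.Agent.FourTwo.Comm Cfsg.Agent.FourTwo.BN Cfsg.Agent.FourTwo.Par Cfsg.Agent.FourTwo.Cent
open Cfsg.Agent.FourTwo.CentAll Cfsg.Agent.FourTwo.Perf Cfsg.Agent.FourTwo.PairW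
open Cfsg.Agent.F42.RelTab (all2 all2_spec)
open scoped commutatorElement

variable {L : Type*} [Group L] {π : L →* LL}

/-- a central extension of `F₄(2)` -/
structure Ext (π : L →* LL) : Prop where
  surj : Function.Surjective π
  cen : ∀ m, π m = 1 → ∀ g, m * g = g * m

theorem Ext.eq_of (_E : Ext π) {a b : L} (h : π a = π b) : ∃ m, π m = 1 ∧ a = m * b :=
  ⟨a * b⁻¹, by rw [map_mul, map_inv, h, mul_inv_cancel], by group⟩

/-- a central factor disappears in a conjugation -/
theorem conj_cen {m g h : L} (hm : ∀ x, m * x = x * m) : (m * g) * h * (m * g)⁻¹ = g * h * g⁻¹ := by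
  have : m * (g * h * g⁻¹) * m⁻¹ = g * h * g⁻¹ := by rw [hm, mul_inv_cancel_right]
  rw [← this]; group

/-- a central factor of the conjugated element -/
theorem conj_cen' {m g h : L} (hm : ∀ x, m * x = x * m) : g * (m * h) * g⁻¹ = m * (g * h * g⁻¹) := by
  rw [← mul_assoc, ← hm g]; group

theorem Ext.conj_eq (E : Ext π) {g g' : L} (h : π g = π g') (a : L) : g * a * g⁻¹ = g' * a * g'⁻¹ := by
  obtain ⟨m, hm, rfl⟩ := E.eq_of h
  exact conj_cen (E.cen m hm)

/-- Lifts of an element and of an element of a perfect subgroup centralising it commute. -/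
theorem Ext.comm_of_perfect (E : Ext π) {H : Subgroup LL} (hH : ⁅H, H⁆ = H) {a b : L}
    (ha : ∀ h ∈ H, π a * h = h * π a) (hb : π b ∈ H) : a * b = b * a := by
  have e : ∀ b, π b ∈ H → ∃ m, (∀ g, m * g = g * m) ∧ a * b * a⁻¹ = m * b := by
    intro b hb
    obtain ⟨m, hm, h⟩ := E.eq_of (a := a * b * a⁻¹) (b := b) (by
      rw [map_mul, map_mul, map_inv, ha _ hb, mul_inv_cancel_right])
    exact ⟨m, E.cen m hm, h⟩
  have key : ⁅H, H⁆ ≤ (Subgroup.centralizer {a}).map π := by
    rw [Subgroup.commutator_le]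
    intro h1 hh1 h2 hh2
    obtain ⟨b1, rfl⟩ := E.surj h1
    obtain ⟨b2, rfl⟩ := E.surj h2
    refine ⟨⁅b1, b2⁆, ?_, map_commutatorElement _ _ _⟩
    obtain ⟨m1, hm1, e1⟩ := e b1 hh1
    obtain ⟨m2, hm2, e2⟩ := e b2 hh2
    have e3 : a * ⁅b1, b2⁆ * a⁻¹ = ⁅b1, b2⁆ := by
      have e4 : a * ⁅b1, b2⁆ * a⁻¹ = (a * b1 * a⁻¹) * (a * b2 * a⁻¹) * (a * b1 * a⁻¹)⁻¹ * (a * b2 * a⁻¹)⁻¹ := by
        rw [commutatorElement_def]; group
      rw [e4, e1, e2, conj_cen hm1, conj_cen' hm2, commutatorElement_def, mul_inv_rev m2 b2,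
        hm2 (b1 * b2 * b1⁻¹)]
      have e5 : m2 * (b2⁻¹ * m2⁻¹) = b2⁻¹ := by rw [hm2, inv_mul_cancel_right]
      rw [mul_assoc, e5]
    have h5 : ⁅b1, b2⁆ ∈ (Subgroup.centralizer {a} : Subgroup L) := by
      rw [Subgroup.mem_centralizer_singleton_iff]
      exact (mul_inv_eq_iff_eq_mul.1 e3).symm
    exact h5
  rw [hH] at key
  obtain ⟨b', hb', h⟩ := key hb
  have hb2 : b' * a = a * b' := Subgroup.mem_centralizer_singleton_iff.1 hb'
  obtain ⟨m, hm, rfl⟩ := E.eq_of h.symm
  have hm' := E.cen m hm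
  rw [← mul_assoc, ← hm' a, mul_assoc, ← hb2, mul_assoc]

theorem perfect_base (r : ℕ) : ⁅Subgroup.centralizer {x (base r)}, Subgroup.centralizer {x (base r)}⁆ =
    Subgroup.centralizer {x (base r)} := by
  unfold base
  split_ifs
  · rw [cent_short]
    exact perfect_Ps
  · rw [cent_long]
    exact perfect_Pl

/-- **A lift of `x r` commutes with the preimage of the centraliser of `x r`.** -/
theorem Ext.comm_of_cent (E : Ext π) {r : ℕ} (hr : r < 48) {a b : L} (ha : π a = x r)
    (hb : π b * x r = x r * π b) : a * b = b * a := by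
  obtain ⟨w, hw⟩ := E.surj (wr r)
  have h1 : x (base r) = (wr r)⁻¹ * x r * wr r := by rw [← wr_base hr]; group
  have h2 : (w⁻¹ * a * w) * (w⁻¹ * b * w) = (w⁻¹ * b * w) * (w⁻¹ * a * w) := by
    refine E.comm_of_perfect (perfect_base r) ?_ ?_
    · intro h hh
      rw [Subgroup.mem_centralizer_singleton_iff] at hh
      rw [map_mul, map_mul, map_inv, ha, hw, ← h1, hh]
    · rw [Subgroup.mem_centralizer_singleton_iff, map_mul, map_mul, map_inv, hw, h1]
      calc (wr r)⁻¹ * π b * wr r * ((wr r)⁻¹ * x r * wr r) = (wr r)⁻¹ * (π b * x r) * wr r := by group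
        _ = (wr r)⁻¹ * (x r * π b) * wr r := by rw [hb]
        _ = _ := by group
  calc a * b = w * ((w⁻¹ * a * w) * (w⁻¹ * b * w)) * w⁻¹ := by group
    _ = w * ((w⁻¹ * b * w) * (w⁻¹ * a * w)) * w⁻¹ := by rw [h2]
    _ = b * a := by group

/-- conjugates of a lift of a root element depend only on the conjugate root element -/
theorem Ext.conj_lift (E : Ext π) {r : ℕ} (hr : r < 48) {a g g' : L} (ha : π a = x r)
    (h : π g * x r * (π g)⁻¹ = π g' * x r * (π g')⁻¹) : g * a * g⁻¹ = g' * a * g'⁻¹ := by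
  have h1 : a * (g'⁻¹ * g) = (g'⁻¹ * g) * a := by
    refine E.comm_of_cent hr ha ?_
    rw [map_mul, map_inv]
    calc (π g')⁻¹ * π g * x r = (π g')⁻¹ * (π g * x r * (π g)⁻¹) * π g := by group
      _ = (π g')⁻¹ * (π g' * x r * (π g')⁻¹) * π g := by rw [h]
      _ = _ := by group
  calc g * a * g⁻¹ = g' * ((g'⁻¹ * g) * a) * g⁻¹ := by group
    _ = g' * (a * (g'⁻¹ * g)) * g⁻¹ := by rw [h1]
    _ = _ := by group

/-! ### the lifts before normalisation -/

/-- a lift -/
noncomputable def Ext.lf (E : Ext π) (g : LL) : L := (E.surj g).choose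

theorem Ext.map_lf (E : Ext π) (g : LL) : π (E.lf g) = g := (E.surj g).choose_spec

/-- the lifts before normalisation -/
noncomputable def Ext.pre (E : Ext π) (r : ℕ) : L := E.lf (wr r) * E.lf (x (base r)) * (E.lf (wr r))⁻¹

theorem Ext.map_pre (E : Ext π) {r : ℕ} (hr : r < 48) : π (E.pre r) = x r := by
  unfold Ext.pre
  rw [map_mul, map_mul, map_inv, E.map_lf, E.map_lf, wr_base hr]

theorem base_congr {r s : ℕ} (h : isShort r = isShort s) : base r = base s := by
  unfold base
  rw [h]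

theorem Ext.pre_conj (E : Ext π) {r s : ℕ} (hr : r < 48) (hs : s < 48) (hrs : isShort r = isShort s) {g : L}
    (h : π g * x r * (π g)⁻¹ = x s) : g * E.pre r * g⁻¹ = E.pre s := by
  have h1 : (g * E.lf (wr r)) * E.lf (x (base r)) * (g * E.lf (wr r))⁻¹ =
      E.lf (wr s) * E.lf (x (base r)) * (E.lf (wr s))⁻¹ := by
    refine E.conj_lift (base_lt r) (E.map_lf _) ?_
    rw [map_mul, E.map_lf, E.map_lf]
    calc π g * wr r * x (base r) * (π g * wr r)⁻¹ = π g * (wr r * x (base r) * (wr r)⁻¹) * (π g)⁻¹ := by group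
      _ = x s := by rw [wr_base hr, h]
      _ = wr s * x (base r) * (wr s)⁻¹ := by rw [base_congr hrs, wr_base hs]
  unfold Ext.pre
  rw [← base_congr hrs, ← h1]
  group

/-- the two signs -/
noncomputable def Ext.cs (E : Ext π) (s : Bool) : L :=
  cond s (E.pre 40 * E.pre 33 * (E.pre 40)⁻¹ * (E.pre 33)⁻¹ * (E.pre 44)⁻¹)
    (E.pre 46 * E.pre 24 * (E.pre 46)⁻¹ * (E.pre 24)⁻¹ * (E.pre 47)⁻¹)

/-- a relation `[x r, x s] = x t` -/
theorem comm_single {r s t : ℕ} (hr : r < 48) (hs : s < 48) (h1 : r ≠ s) (h2 : r + s ≠ 47) (h : cmg r s = [t]) :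
    x r * x s * (x r)⁻¹ * (x s)⁻¹ = x t := by
  rw [conj_x hr hs h1 h2, h, wd_one]
  have h3 : x t = x s * x r * x s * x r := by
    have h4 := comm_all hr hs h1 h2
    rw [h, wd_one] at h4
    have h5 : x s * (x r * x s) * x r = x t := by
      rw [h4]
      calc x s * (x s * x t * x r) * x r = (x s * x s) * x t * (x r * x r) := by group
        _ = x t := by rw [Base.x_mul_self, Base.x_mul_self, one_mul, mul_one]
    rw [← h5]; group
  have h4 : x s * x t = x t * x s := by
    -- `t = r + s` commutes with `s`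
    have tab : all2 (fun r s => (cmg r s).all fun t => Nat.beq (t + s) 47 || (cmg s t).isEmpty) = true := by
      decide +kernel
    have tab2 : all2 (fun r s => (cmg r s).all fun t => Nat.ble t 47 && !Nat.beq (s + t) 47) = true := by
      decide +kernel
    have h5 := all2_spec tab hr hs
    have h6 := all2_spec tab2 hr hs
    rw [h] at h5 h6
    simp only [List.all_cons, List.all_nil, Bool.and_true, Bool.or_eq_true, Nat.beq_eq, List.isEmpty_iff,
      Bool.and_eq_true, Nat.ble_eq, Bool.not_eq_true'] at h5 h6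
    have h7 : s + t ≠ 47 := by
      intro h7
      rw [h7] at h6
      exact absurd h6.2 (by decide)
    rcases h5 with h5 | h5
    · omega
    · exact comm_one hs (by omega) h7 h5
  rw [h4, mul_inv_cancel_right]

/-! ### the normalised lifts -/

theorem conj_comm5 {g a b c a' b' c' : L} (ha : g * a * g⁻¹ = a') (hb : g * b * g⁻¹ = b') (hc : g * c * g⁻¹ = c') :
    g * (a * b * a⁻¹ * b⁻¹ * c⁻¹) * g⁻¹ = a' * b' * a'⁻¹ * b'⁻¹ * c'⁻¹ := by
  rw [← ha, ← hb, ← hc]; group

theorem Ext.map_cs (E : Ext π) (s : Bool) : π (E.cs s) = 1 := by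
  cases s
  · show π (E.pre 46 * E.pre 24 * (E.pre 46)⁻¹ * (E.pre 24)⁻¹ * (E.pre 47)⁻¹) = 1
    rw [map_mul, map_mul, map_mul, map_mul, map_inv, map_inv, map_inv, E.map_pre (by omega), E.map_pre (by omega),
      E.map_pre (by omega), comm_single (by omega) (by omega) (by omega) (by omega) (t := 47) (by decide),
      mul_inv_cancel]
  · show π (E.pre 40 * E.pre 33 * (E.pre 40)⁻¹ * (E.pre 33)⁻¹ * (E.pre 44)⁻¹) = 1
    rw [map_mul, map_mul, map_mul, map_mul, map_inv, map_inv, map_inv, E.map_pre (by omega), E.map_pre (by omega),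
      E.map_pre (by omega), comm_single (by omega) (by omega) (by omega) (by omega) (t := 44) (by decide),
      mul_inv_cancel]

theorem Ext.cs_cen (E : Ext π) (s : Bool) (g : L) : E.cs s * g = g * E.cs s := E.cen _ (E.map_cs s) g

/-- **The canonical lift of `x r`.** -/
noncomputable def Ext.A (E : Ext π) (r : ℕ) : L := E.cs (isShort r) * E.pre r

theorem Ext.map_A (E : Ext π) {r : ℕ} (hr : r < 48) : π (E.A r) = x r := by
  unfold Ext.A
  rw [map_mul, E.map_cs, one_mul, E.map_pre hr]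

theorem Ext.A_conj (E : Ext π) {r s : ℕ} (hr : r < 48) (hs : s < 48) (hrs : isShort r = isShort s) {g : L}
    (h : π g * x r * (π g)⁻¹ = x s) : g * E.A r * g⁻¹ = E.A s := by
  unfold Ext.A
  rw [conj_cen' (E.cs_cen _), E.pre_conj hr hs hrs h, hrs]

theorem Ext.A_comm_of (E : Ext π) {r : ℕ} (hr : r < 48) {b : L} (hb : π b * x r = x r * π b) :
    E.A r * b = b * E.A r := E.comm_of_cent hr (E.map_A hr) hb

/-- the root elements commute -/
def comB (r s : ℕ) : Bool := Nat.beq r s || (!Nat.beq (r + s) 47 && (cmg r s).isEmpty)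

theorem comm_of_comB {r s : ℕ} (hr : r < 48) (hs : s < 48) (h : comB r s = true) : x r * x s = x s * x r := by
  unfold comB at h
  rw [Bool.or_eq_true, Nat.beq_eq, Bool.and_eq_true, List.isEmpty_iff, Bool.not_eq_true'] at h
  rcases h with rfl | ⟨h1, h2⟩
  · rfl
  · refine comm_one hr hs ?_ h2
    intro h3
    rw [h3] at h1
    exact absurd h1 (by decide)

theorem Ext.A_comm (E : Ext π) {r s : ℕ} (hr : r < 48) (hs : s < 48) (h : comB r s = true) :
    E.A r * E.A s = E.A s * E.A r := by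
  refine E.A_comm_of hr ?_
  rw [E.map_A hs]
  exact (comm_of_comB hr hs h).symm

/-- the words carrying a pair to its standard pair -/
theorem Ext.word_conj (E : Ext π) {r s t : ℕ} (hr : r < 48) (hs : s < 48) (ht : t < 48) {g : L}
    (hg : π g = nw (word r s)) (h : isShort t = isShort (act (word r s) t)) :
    g * E.A t * g⁻¹ = E.A (act (word r s) t) := by
  have hw := word_lt hr hs
  refine E.A_conj ht (act_lt hw ht) h ?_
  rw [hg, nw_conj hw ht]

/-- the check of the relations with one letter -/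
def oneB (r s : ℕ) : Bool :=
  match cmg r s with
  | [t] => Nat.ble t 47 && !Nat.beq (r + s) 47 && !Nat.beq r s && (isShort r == isShort s) && (isShort r == isShort t) &&
      (fun w => cond (isShort r) (Nat.beq (act w r) 40 && Nat.beq (act w s) 33 && Nat.beq (act w t) 44)
        (Nat.beq (act w r) 46 && Nat.beq (act w s) 24 && Nat.beq (act w t) 47)) (word r s) &&
      (comB t s && comB t r)
  | _ => true

theorem oneB_tab : all2 oneB = true := by decide +kernel

structure One (r s t : ℕ) : Prop where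
  ht : t < 48
  hrs : r + s ≠ 47
  ne : r ≠ s
  s1 : isShort r = isShort s
  s2 : isShort r = isShort t
  wr : act (word r s) r = cond (isShort r) 40 46
  ws : act (word r s) s = cond (isShort r) 33 24
  wt : act (word r s) t = cond (isShort r) 44 47
  c1 : comB t s = true
  c2 : comB t r = true

theorem one_of {r s t : ℕ} (hr : r < 48) (hs : s < 48) (h : cmg r s = [t]) : One r s t := by
  have h1 := all2_spec oneB_tab hr hs
  unfold oneB at h1
  rw [h] at h1
  simp only [Bool.and_eq_true, Nat.ble_eq, Bool.not_eq_true', beq_iff_eq] at h1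
  obtain ⟨⟨⟨⟨⟨⟨a1, a2⟩, a3⟩, a4⟩, a5⟩, a6⟩, a7, a8⟩ := h1
  have b2 : r + s ≠ 47 := fun h => by rw [h] at a2; exact absurd a2 (by decide)
  have b3 : r ≠ s := fun h => by rw [h, Nat.beq_refl] at a3; exact absurd a3 (by decide)
  cases hsh : isShort r
  · rw [hsh] at a6
    simp only [cond_false, Bool.and_eq_true, Nat.beq_eq] at a6
    exact ⟨by omega, b2, b3, a4, a5, by rw [hsh]; exact a6.1.1, by rw [hsh]; exact a6.1.2, by rw [hsh]; exact a6.2,
      a7, a8⟩
  · rw [hsh] at a6
    simp only [cond_true, Bool.and_eq_true, Nat.beq_eq] at a6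
    exact ⟨by omega, b2, b3, a4, a5, by rw [hsh]; exact a6.1.1, by rw [hsh]; exact a6.1.2, by rw [hsh]; exact a6.2,
      a7, a8⟩

theorem short40 : isShort 40 = true := by decide
theorem short33 : isShort 33 = true := by decide
theorem short44 : isShort 44 = true := by decide
theorem short29 : isShort 29 = true := by decide
theorem short46 : isShort 46 = false := by decide
theorem short24 : isShort 24 = false := by decide
theorem short47 : isShort 47 = false := by decide
theorem short41 : isShort 41 = false := by decide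

/-- the commutator of the lifts before and after the normalisation -/
theorem comm_norm {c d a b : L} (hc : ∀ g, c * g = g * c) (hd : ∀ g, d * g = g * d) :
    (c * a) * (d * b) * (c * a)⁻¹ * (d * b)⁻¹ = a * b * a⁻¹ * b⁻¹ := by
  rw [conj_cen hc, conj_cen' hd, mul_inv_rev, hd]
  have e5 : d * (b⁻¹ * d⁻¹) = b⁻¹ := by rw [hd, inv_mul_cancel_right]
  rw [mul_assoc (a * b * a⁻¹) d, e5]

/-- the standard relations -/
theorem Ext.std_one (E : Ext π) (s : Bool) : E.A (cond s 40 46) * E.A (cond s 33 24) * (E.A (cond s 40 46))⁻¹ *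
    (E.A (cond s 33 24))⁻¹ = E.A (cond s 44 47) := by
  cases s
  · simp only [cond_false]
    have e : E.A 46 * E.A 24 * (E.A 46)⁻¹ * (E.A 24)⁻¹ = E.pre 46 * E.pre 24 * (E.pre 46)⁻¹ * (E.pre 24)⁻¹ := by
      unfold Ext.A
      exact comm_norm (E.cs_cen _) (E.cs_cen _)
    rw [e]
    unfold Ext.A
    rw [short47]
    show _ = (E.pre 46 * E.pre 24 * (E.pre 46)⁻¹ * (E.pre 24)⁻¹ * (E.pre 47)⁻¹) * E.pre 47
    rw [inv_mul_cancel_right]
  · simp only [cond_true]
    have e : E.A 40 * E.A 33 * (E.A 40)⁻¹ * (E.A 33)⁻¹ = E.pre 40 * E.pre 33 * (E.pre 40)⁻¹ * (E.pre 33)⁻¹ := by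
      unfold Ext.A
      exact comm_norm (E.cs_cen _) (E.cs_cen _)
    rw [e]
    unfold Ext.A
    rw [short44]
    show _ = (E.pre 40 * E.pre 33 * (E.pre 40)⁻¹ * (E.pre 33)⁻¹ * (E.pre 44)⁻¹) * E.pre 44
    rw [inv_mul_cancel_right]

/-- **The relations with one letter.** -/
theorem Ext.rel_one (E : Ext π) {r s t : ℕ} (hr : r < 48) (hs : s < 48) (h : cmg r s = [t]) :
    E.A r * E.A s * (E.A r)⁻¹ * (E.A s)⁻¹ = E.A t := by
  have o := one_of hr hs h
  obtain ⟨g, hg⟩ := E.surj (nw (word r s))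
  have e1 : g * E.A r * g⁻¹ = E.A (cond (isShort r) 40 46) := by
    rw [← o.wr]
    refine E.word_conj hr hs hr hg ?_
    rw [o.wr]
    cases isShort r
    · rw [cond_false, short46]
    · rw [cond_true, short40]
  have e2 : g * E.A s * g⁻¹ = E.A (cond (isShort r) 33 24) := by
    rw [← o.ws]
    refine E.word_conj hr hs hs hg ?_
    rw [o.ws, ← o.s1]
    cases isShort r
    · rw [cond_false, short24]
    · rw [cond_true, short33]
  have e3 : g * E.A t * g⁻¹ = E.A (cond (isShort r) 44 47) := by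
    rw [← o.wt]
    refine E.word_conj hr hs o.ht hg ?_
    rw [o.wt, ← o.s2]
    cases isShort r
    · rw [cond_false, short47]
    · rw [cond_true, short44]
  have e4 := E.std_one (isShort r)
  rw [← e1, ← e2, ← e3] at e4
  have e5 : g * (E.A r * E.A s * (E.A r)⁻¹ * (E.A s)⁻¹) * g⁻¹ = g * E.A t * g⁻¹ := by
    rw [← e4]; group
  exact mul_left_cancel (mul_right_cancel e5)

/-- the square is central -/
theorem Ext.A_sq_cen (E : Ext π) {r : ℕ} (hr : r < 48) (g : L) : (E.A r * E.A r) * g = g * (E.A r * E.A r) := by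
  refine E.cen _ ?_ g
  rw [map_mul, E.map_A hr, Base.x_mul_self]

theorem sq_tab : ((List.range 48).all fun t => (List.range 48).any fun r => (List.range 48).any fun s =>
    cmg r s == [t]) = true := by decide +kernel

/-- every root is a sum of two roots at 120° -/
theorem exists_pair {t : ℕ} (ht : t < 48) : ∃ r < 48, ∃ s < 48, cmg r s = [t] := by
  have h := all_of sq_tab ht
  rw [List.any_eq_true] at h
  obtain ⟨r, hr, h⟩ := h
  rw [List.any_eq_true] at h
  obtain ⟨s, hs, h⟩ := h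
  exact ⟨r, List.mem_range.1 hr, s, List.mem_range.1 hs, by simpa using h⟩

/-- if `a² ` is central, `a b a⁻¹ b⁻¹ = c` commutes with `a` and `b` then `c² = 1` -/
theorem sq_of_rel {a b c : L} (h2 : ∀ g, (a * a) * g = g * (a * a)) (h : a * b * a⁻¹ * b⁻¹ = c) (hc : c * a = a * c) :
    c * c = 1 := by
  have h1 : a * b = c * b * a := by rw [← h]; group
  have h3 : a * (a * b) = c * c * b * (a * a) := by
    rw [h1]
    calc a * (c * b * a) = (a * c) * b * a := by group
      _ = (c * a) * b * a := by rw [hc]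
      _ = c * (a * b) * a := by group
      _ = c * (c * b * a) * a := by rw [h1]
      _ = _ := by group
  have h4 : a * (a * b) = b * (a * a) := by rw [← h2]; group
  rw [h4] at h3
  have h5 := mul_right_cancel h3
  have h6 : 1 * b = (c * c) * b := by rw [one_mul]; exact h5
  exact (mul_right_cancel h6).symm

/-- **The canonical lifts are involutions.** -/
theorem Ext.A_sq (E : Ext π) {t : ℕ} (ht : t < 48) : E.A t * E.A t = 1 := by
  obtain ⟨r, hr, s, hs, h⟩ := exists_pair ht
  have o := one_of hr hs h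
  exact sq_of_rel (E.A_sq_cen hr) (E.rel_one hr hs h) (E.A_comm ht hr o.c2)

theorem Ext.A_inv (E : Ext π) {t : ℕ} (ht : t < 48) : (E.A t)⁻¹ = E.A t := by
  rw [inv_eq_iff_mul_eq_one, E.A_sq ht]

/-! ### the mixed relations -/

/-- the check of the relations with two letters -/
def twoB (r s : ℕ) : Bool :=
  match cmg r s with
  | [] => true
  | [_] => true
  | [t, u] => (Nat.ble t 47 && Nat.ble u 47 && !Nat.beq (r + s) 47 && !Nat.beq r s && (cmg s r == [t, u])) &&
      ((isShort r == !isShort s) && isShort t && !isShort u) &&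
      (isShort r || (fun w => Nat.beq (act w r) 41 && Nat.beq (act w s) 29 && Nat.beq (act w t) 44 &&
        Nat.beq (act w u) 47) (word r s)) && (comB t s && comB t r && comB u s && comB u r && comB t u)
  | _ => false

theorem twoB_tab : all2 twoB = true := by decide +kernel

structure Two (r s t u : ℕ) : Prop where
  ht : t < 48
  hu : u < 48
  hrs : r + s ≠ 47
  ne : r ≠ s
  sw : cmg s r = [t, u]
  s1 : isShort r = !isShort s
  s2 : isShort t = true
  s3 : isShort u = false
  w : isShort r = false → act (word r s) r = 41 ∧ act (word r s) s = 29 ∧ act (word r s) t = 44 ∧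
    act (word r s) u = 47
  ts : comB t s = true
  tr : comB t r = true
  us : comB u s = true
  ur : comB u r = true
  tu : comB t u = true

theorem two_of {r s t u : ℕ} (hr : r < 48) (hs : s < 48) (h : cmg r s = [t, u]) : Two r s t u := by
  have h1 := all2_spec twoB_tab hr hs
  unfold twoB at h1
  rw [h] at h1
  simp only [Bool.and_eq_true, Nat.ble_eq, Bool.not_eq_true', beq_iff_eq, Bool.or_eq_true, Nat.beq_eq] at h1
  obtain ⟨⟨⟨⟨⟨⟨⟨a1, a2⟩, a3⟩, a4⟩, a5⟩, ⟨a6, a7⟩, a8⟩, a9⟩, ⟨⟨⟨a10, a11⟩, a12⟩, a13⟩, a14⟩ := h1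
  refine ⟨by omega, by omega, ?_, ?_, a5, a6, a7, a8, ?_, a10, a11, a12, a13, a14⟩
  · exact fun h => by rw [h] at a3; exact absurd a3 (by decide)
  · exact fun h => by rw [h, Nat.beq_refl] at a4; exact absurd a4 (by decide)
  · intro h2
    rw [h2] at a9
    rcases a9 with h3 | h3
    · exact absurd h3 (by decide)
    · exact ⟨h3.1.1.1, h3.1.1.2, h3.1.2, h3.2⟩

theorem cm_41_29 : cmg 41 29 = [44, 47] := by decide

/-- **The sign of the mixed relations.** -/
noncomputable def Ext.m₀ (E : Ext π) : L := E.A 41 * E.A 29 * (E.A 41)⁻¹ * (E.A 29)⁻¹ * (E.A 44 * E.A 47)⁻¹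

/-- a relation `[x r, x s] = x t x u` -/
theorem comm_double {r s t u : ℕ} (hr : r < 48) (hs : s < 48) (h : cmg r s = [t, u]) :
    x r * x s * (x r)⁻¹ * (x s)⁻¹ = x t * x u := by
  have o := two_of hr hs h
  rw [conj_x hr hs o.ne o.hrs, h, wd_cons, wd_one]
  have h1 := comm_of_comB o.ht hs o.ts
  have h2 := comm_of_comB o.hu hs o.us
  calc x s * (x t * x u) * (x s)⁻¹ = (x s * x t) * x u * (x s)⁻¹ := by group
    _ = x t * (x s * x u) * (x s)⁻¹ := by rw [← h1]; group
    _ = x t * x u := by rw [← h2]; group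

theorem Ext.map_m₀ (E : Ext π) : π E.m₀ = 1 := by
  unfold Ext.m₀
  rw [map_mul, map_mul, map_mul, map_mul, map_inv, map_inv, map_inv, map_mul, E.map_A (by omega), E.map_A (by omega),
    E.map_A (by omega), E.map_A (by omega), comm_double (by omega) (by omega) cm_41_29, mul_inv_cancel]

theorem Ext.m₀_cen (E : Ext π) (g : L) : E.m₀ * g = g * E.m₀ := E.cen _ E.map_m₀ g

theorem Ext.rel_two_aux (E : Ext π) {r s t u : ℕ} (hr : r < 48) (hs : s < 48) (h : cmg r s = [t, u])
    (hl : isShort r = false) :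
    E.A r * E.A s * (E.A r)⁻¹ * (E.A s)⁻¹ = E.m₀ * (E.A t * E.A u) := by
  have o := two_of hr hs h
  obtain ⟨g, hg⟩ := E.surj (nw (word r s))
  obtain ⟨w1, w2, w3, w4⟩ := o.w hl
  have hls : isShort s = true := by
    have := o.s1
    rw [hl] at this
    cases h : isShort s
    · rw [h] at this; exact absurd this (by decide)
    · rfl
  have e1 : g * E.A r * g⁻¹ = E.A 41 := by
    rw [← w1]
    exact E.word_conj hr hs hr hg (by rw [w1, hl, short41])
  have e2 : g * E.A s * g⁻¹ = E.A 29 := by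
    rw [← w2]
    exact E.word_conj hr hs hs hg (by rw [w2, hls, short29])
  have e3 : g * E.A t * g⁻¹ = E.A 44 := by
    rw [← w3]
    exact E.word_conj hr hs o.ht hg (by rw [w3, o.s2, short44])
  have e4 : g * E.A u * g⁻¹ = E.A 47 := by
    rw [← w4]
    exact E.word_conj hr hs o.hu hg (by rw [w4, o.s3, short47])
  have e6 : g * (E.A r * E.A s * (E.A r)⁻¹ * (E.A s)⁻¹) * g⁻¹ = g * (E.m₀ * (E.A t * E.A u)) * g⁻¹ := by
    have e7 : g * (E.m₀ * (E.A t * E.A u)) * g⁻¹ = E.m₀ * (E.A 44 * E.A 47) := by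
      rw [conj_cen' E.m₀_cen, ← e3, ← e4]; group
    have e8 : g * (E.A r * E.A s * (E.A r)⁻¹ * (E.A s)⁻¹) * g⁻¹ = E.A 41 * E.A 29 * (E.A 41)⁻¹ * (E.A 29)⁻¹ := by
      rw [← e1, ← e2]; group
    rw [e7, e8]
    unfold Ext.m₀
    rw [inv_mul_cancel_right]
  exact mul_left_cancel (mul_right_cancel e6)

theorem Ext.m₀_sq (E : Ext π) : E.m₀ * E.m₀ = 1 := by
  have o := two_of (by omega : 41 < 48) (by omega : 29 < 48) cm_41_29
  have h1 := E.rel_two_aux (by omega) (by omega) cm_41_29 short41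
  have h2 : (E.m₀ * (E.A 44 * E.A 47)) * (E.m₀ * (E.A 44 * E.A 47)) = 1 := by
    refine sq_of_rel (E.A_sq_cen (by omega)) h1 ?_
    have h3 := E.A_comm o.ht (by omega : 41 < 48) o.tr
    have h4 := E.A_comm o.hu (by omega : 41 < 48) o.ur
    calc E.m₀ * (E.A 44 * E.A 47) * E.A 41 = E.m₀ * (E.A 44 * (E.A 47 * E.A 41)) := by group
      _ = E.m₀ * ((E.A 44 * E.A 41) * E.A 47) := by rw [h4]; group
      _ = (E.m₀ * E.A 41) * (E.A 44 * E.A 47) := by rw [h3]; group
      _ = _ := by rw [E.m₀_cen]; group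
  have h5 := E.A_comm o.ht o.hu o.tu
  have h6 : (E.m₀ * (E.A 44 * E.A 47)) * (E.m₀ * (E.A 44 * E.A 47)) = E.m₀ * E.m₀ := by
    calc (E.m₀ * (E.A 44 * E.A 47)) * (E.m₀ * (E.A 44 * E.A 47))
        = E.m₀ * ((E.A 44 * E.A 47) * E.m₀) * (E.A 44 * E.A 47) := by group
      _ = E.m₀ * (E.m₀ * (E.A 44 * E.A 47)) * (E.A 44 * E.A 47) := by rw [E.m₀_cen (E.A 44 * E.A 47)]
      _ = E.m₀ * E.m₀ * ((E.A 44 * E.A 47) * (E.A 44 * E.A 47)) := by group
      _ = E.m₀ * E.m₀ * ((E.A 44 * E.A 47) * (E.A 47 * E.A 44)) := by nth_rw 2 [h5]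
      _ = E.m₀ * E.m₀ * (E.A 44 * (E.A 47 * E.A 47) * E.A 44) := by group
      _ = E.m₀ * E.m₀ := by rw [E.A_sq (by omega), mul_one, E.A_sq (by omega), mul_one]
  rw [← h6, h2]

theorem Ext.m₀_inv (E : Ext π) : E.m₀⁻¹ = E.m₀ := by rw [inv_eq_iff_mul_eq_one, E.m₀_sq]

/-- **The relations with two letters.** -/
theorem Ext.rel_two (E : Ext π) {r s t u : ℕ} (hr : r < 48) (hs : s < 48) (h : cmg r s = [t, u]) :
    E.A r * E.A s * (E.A r)⁻¹ * (E.A s)⁻¹ = E.m₀ * (E.A t * E.A u) := by
  cases hl : isShort r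
  · exact E.rel_two_aux hr hs h hl
  · have o := two_of hr hs h
    have hls : isShort s = false := by
      have := o.s1
      rw [hl] at this
      cases h : isShort s
      · rfl
      · rw [h] at this; exact absurd this (by decide)
    have h1 := E.rel_two_aux hs hr o.sw hls
    have h2 : E.A r * E.A s * (E.A r)⁻¹ * (E.A s)⁻¹ = (E.m₀ * (E.A t * E.A u))⁻¹ := by
      rw [← h1]; group
    rw [h2, mul_inv_rev, mul_inv_rev, E.m₀_inv, E.A_inv o.ht, E.A_inv o.hu, ← E.m₀_cen]
    congr 1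
    exact (E.A_comm o.ht o.hu o.tu).symm

/-! ### the system -/

/-- products of the lifts -/
def wA (A : ℕ → L) (w : List ℕ) : L := (w.map A).prod

@[simp] theorem wA_nil (A : ℕ → L) : wA A [] = 1 := rfl

theorem wA_cons (A : ℕ → L) (r : ℕ) (w : List ℕ) : wA A (r :: w) = A r * wA A w := by simp [wA]

theorem wA_append (A : ℕ → L) (w w' : List ℕ) : wA A (w ++ w') = wA A w * wA A w' := by simp [wA]

/-- lifts of the root elements with all their relations; `m` is the sign of the mixed relations -/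
structure Sys (π : L →* LL) (A : ℕ → L) (m : L) : Prop where
  lift : ∀ {r : ℕ}, r < 48 → π (A r) = x r
  m_ker : π m = 1
  m_cen : ∀ g, m * g = g * m
  m_sq : m * m = 1
  sq : ∀ {r : ℕ}, r < 48 → A r * A r = 1
  cm1 : ∀ {r s : ℕ}, r < 48 → s < 48 → r ≠ s → r + s ≠ 47 → (cmg r s).length ≤ 1 →
    A r * A s = A s * wA A (cmg r s) * A r
  cm2 : ∀ {r s : ℕ}, r < 48 → s < 48 → (cmg r s).length = 2 → A r * A s = m * (A s * wA A (cmg r s) * A r)

theorem len_tab : all2 (fun r s => Nat.ble (cmg r s).length 2) = true := by decide +kernel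

theorem Ext.sys (E : Ext π) : Sys π E.A E.m₀ where
  lift := E.map_A
  m_ker := E.map_m₀
  m_cen := E.m₀_cen
  m_sq := E.m₀_sq
  sq := E.A_sq
  cm1 := by
    intro r s hr hs h1 h2 h
    rcases hc : cmg r s with _ | ⟨t, _ | ⟨u, l⟩⟩
    · rw [wA_nil, mul_one]
      refine E.A_comm hr hs ?_
      unfold comB
      rw [hc, Bool.or_eq_true, Bool.and_eq_true]
      right
      refine ⟨?_, rfl⟩
      rw [Bool.not_eq_true', ← Bool.not_eq_true, Nat.beq_eq]
      exact h2
    · have o := one_of hr hs hc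
      have h3 := E.rel_one hr hs hc
      rw [wA_cons, wA_nil, mul_one, ← E.A_comm o.ht hs o.c1, ← h3]
      group
    · rw [hc] at h
      simp at h
  cm2 := by
    intro r s hr hs h
    rcases hc : cmg r s with _ | ⟨t, _ | ⟨u, _ | ⟨v, l⟩⟩⟩
    · rw [hc] at h; simp at h
    · rw [hc] at h; simp at h
    · have o := two_of hr hs hc
      have h3 := E.rel_two hr hs hc
      have h4 : E.A s * (E.A t * E.A u) = E.A t * E.A u * E.A s := by
        rw [← mul_assoc, ← E.A_comm o.ht hs o.ts, mul_assoc, ← E.A_comm o.hu hs o.us, mul_assoc]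
      rw [wA_cons, wA_cons, wA_nil, mul_one, h4]
      calc E.A r * E.A s = (E.A r * E.A s * (E.A r)⁻¹ * (E.A s)⁻¹) * E.A s * E.A r := by group
        _ = _ := by rw [h3]; group
    · rw [hc] at h; simp at h

/-! ### uniqueness -/

/-- lifts `B r` of the root elements with `[B r, B s] = B t` for the relations with one letter are canonical -/
theorem Ext.A_unique (E : Ext π) {B : ℕ → L} (h1 : ∀ r < 48, π (B r) = x r)
    (h2 : ∀ r < 48, ∀ s < 48, ∀ t, cmg r s = [t] → B r * B s * (B r)⁻¹ * (B s)⁻¹ = B t) {t : ℕ} (ht : t < 48) :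
    B t = E.A t := by
  obtain ⟨r, hr, s, hs, h⟩ := exists_pair ht
  rw [← h2 r hr s hs t h, ← E.rel_one hr hs h]
  obtain ⟨c, hc, e1⟩ := E.eq_of (a := B r) (b := E.A r) (by rw [h1 r hr, E.map_A hr])
  obtain ⟨d, hd, e2⟩ := E.eq_of (a := B s) (b := E.A s) (by rw [h1 s hs, E.map_A hs])
  rw [e1, e2]
  exact comm_norm (E.cen c hc) (E.cen d hd)

end Cfsg.Agent.FourTwo.Lift
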